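import Groth.Agent.VarDim.Catenary
import Groth.Agent.Alg6.LocLoc
import Groth.Agent.S6284
import Groth.Prelude.Def_EGA4b
import Mathlib.RingTheory.Localization.AtPrime.Basic

/-!
# Localizations of modules over algebras of finite type over a field: dimension, `(S_k)`, equidimensionality
-/

set_option autoImplicit false
set_option linter.style.haveILetI false
set_option linter.deprecated false

universe u

open IsLocalRing TensorProduct

namespace Groth.Agent.AssDimLoci

variable {R : Type u} [CommRing R] (M : Type u) [AddCommGroup M] [Module R M]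

/-- The primes of the support contained in `Q`. -/
abbrev SuppBelow (Q : PrimeSpectrum R) : Type u := {q : PrimeSpectrum R // q ≤ Q ∧ q ∈ Module.support R M}

variable [Module.Finite R M]

theorem mem_support_localized_iff (Q : PrimeSpectrum R) (P : PrimeSpectrum (Localization.AtPrime Q.asIdeal)) :
    P ∈ Module.support (Localization.AtPrime Q.asIdeal) (LocalizedModule Q.asIdeal.primeCompl M) ↔
      PrimeSpectrum.comap (algebraMap R (Localization.AtPrime Q.asIdeal)) P ∈ Module.support R M := by
  rw [(LocalizedModule.equivTensorProduct Q.asIdeal.primeCompl M).support_eq, S6284.result]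
  rfl

/-- The support of the localization, as an ordered set. -/
noncomputable def suppIso (Q : PrimeSpectrum R) :
    Module.support (Localization.AtPrime Q.asIdeal) (LocalizedModule Q.asIdeal.primeCompl M) ≃o SuppBelow M Q where
  toFun P := ⟨((IsLocalization.AtPrime.primeSpectrumOrderIso (Localization.AtPrime Q.asIdeal) Q.asIdeal) P.1).1,
    ((IsLocalization.AtPrime.primeSpectrumOrderIso (Localization.AtPrime Q.asIdeal) Q.asIdeal) P.1).2,
    (mem_support_localized_iff M Q P.1).1 P.2⟩
  invFun q := ⟨(IsLocalization.AtPrime.primeSpectrumOrderIso (Localization.AtPrime Q.asIdeal) Q.asIdeal).symm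
      ⟨q.1, q.2.1⟩, (mem_support_localized_iff M Q _).2 (by
      have h := (IsLocalization.AtPrime.primeSpectrumOrderIso (Localization.AtPrime Q.asIdeal) Q.asIdeal).apply_symm_apply
        ⟨q.1, q.2.1⟩
      have h2 := congrArg Subtype.val h
      rw [show PrimeSpectrum.comap (algebraMap R (Localization.AtPrime Q.asIdeal)) _ = q.1 from h2]
      exact q.2.2)⟩
  left_inv P := Subtype.ext ((IsLocalization.AtPrime.primeSpectrumOrderIso (Localization.AtPrime Q.asIdeal) Q.asIdeal).symm_apply_apply P.1)
  right_inv q := Subtype.ext (congrArg (fun z => z.1)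
    ((IsLocalization.AtPrime.primeSpectrumOrderIso (Localization.AtPrime Q.asIdeal) Q.asIdeal).apply_symm_apply ⟨q.1, q.2.1⟩))
  map_rel_iff' := (IsLocalization.AtPrime.primeSpectrumOrderIso (Localization.AtPrime Q.asIdeal) Q.asIdeal).map_rel_iff

variable (k : Type u) [Field k] [Algebra k R] [Algebra.FiniteType k R]

include k in
/-- In the support below `Q` coheights are differences of coheights. -/
theorem coheight_suppBelow (Q : PrimeSpectrum R) (q : SuppBelow M Q) :
    Order.coheight q + Order.coheight Q = Order.coheight q.1 := by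
  obtain ⟨n, hn⟩ := ENat.ne_top_iff_exists.1 (VarDim.coheight_ne_top k q.1)
  induction n using Nat.strong_induction_on generalizing q with
  | h n ih =>
    rcases eq_or_lt_of_le q.2.1 with he | hlt
    · have hmax : IsMax q := fun r _ => show r.1 ≤ q.1 from r.2.1.trans he.ge
      rw [Order.coheight_eq_zero.2 hmax, he, zero_add]
    · obtain ⟨r, hqr, hrQ⟩ := VarDim.exists_covBy k hlt
      have hc := VarDim.coheight_of_covBy k hqr
      obtain ⟨m, hm⟩ := ENat.ne_top_iff_exists.1 (VarDim.coheight_ne_top k r)
      have hmn : m + 1 = n := by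
        rw [← hn, ← hm] at hc
        exact_mod_cast hc.symm
      let r' : SuppBelow M Q := ⟨r, hrQ, Module.mem_support_mono hqr.le q.2.2⟩
      have hr := ih m (by omega) r' hm
      refine le_antisymm ?_ ?_
      · -- strictly increasing chains in the support are chains in the spectrum
        obtain ⟨c, hcQ⟩ := ENat.ne_top_iff_exists.1 (VarDim.coheight_ne_top k Q)
        refine le_of_le_of_eq (b := Order.coheight q.1) ?_ rfl
        have key : ∀ p : LTSeries (SuppBelow M Q), p.head = q → (p.length : ℕ∞) + Order.coheight Q ≤ Order.coheight q.1 := by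
          intro p hp
          obtain ⟨s, hs, hslen⟩ := Order.exists_series_of_coheight_eq_coe Q hcQ.symm
          let p' : LTSeries (PrimeSpectrum R) := p.map Subtype.val (fun _ _ h => h)
          have hl : p'.last ≤ Q := p.last.2.1
          rcases eq_or_lt_of_le hl with he' | hlt'
          · have h1 := Order.length_le_coheight (p := p'.smash s (he'.trans hs.symm)) (x := q.1)
              (by rw [RelSeries.head_smash]; exact le_of_eq (by rw [← hp]; rfl))
            rw [RelSeries.smash_length, hslen, Nat.cast_add, hcQ] at h1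
            exact h1
          · have h1 := Order.length_le_coheight (p := p'.append s (hs ▸ hlt')) (x := q.1)
              (by rw [RelSeries.head_append]; exact le_of_eq (by rw [← hp]; rfl))
            rw [RelSeries.append_length, hslen] at h1
            refine le_trans ?_ h1
            rw [← hcQ]
            exact_mod_cast Nat.le_succ _
        by_cases htop : Order.coheight q = ⊤
        · exfalso
          obtain ⟨p, hp, hlen⟩ := Order.exists_series_of_le_coheight q (n := n + 1) (htop ▸ le_top)
          have := key p hp
          rw [hlen, ← hn] at this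
          have h2 : ((n + 1 : ℕ) : ℕ∞) ≤ n := le_trans le_self_add this
          norm_cast at h2
          omega
        · obtain ⟨e, he⟩ := ENat.ne_top_iff_exists.1 htop
          obtain ⟨p, hp, hlen⟩ := Order.exists_series_of_coheight_eq_coe q he.symm
          have := key p hp
          rwa [hlen, he] at this
      · rw [hc, ← hr, add_right_comm]
        exact add_le_add_left (Order.coheight_add_one_le (show q < r' from hqr.lt)) _

include k in
theorem coheight_suppBelow_le_iff (Q : PrimeSpectrum R) (q : SuppBelow M Q) (n : ℕ) :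
    Order.coheight q ≤ n ↔ Order.coheight q.1 ≤ Order.coheight Q + n := by
  rw [← coheight_suppBelow M k Q q, add_comm]
  exact (ENat.add_le_add_iff_left (VarDim.coheight_ne_top k Q)).symm

include k in
/-- The dimension of a localization of a module. -/
theorem supportDim_localized_le_iff (Q : PrimeSpectrum R) (n : ℕ) :
    Module.supportDim (Localization.AtPrime Q.asIdeal) (LocalizedModule Q.asIdeal.primeCompl M) ≤ n ↔
      ∀ q ≤ Q, q ∈ Module.support R M → Order.coheight q ≤ Order.coheight Q + n := by
  rw [Module.supportDim, Order.krullDim_eq_of_orderIso (suppIso M Q), Order.krullDim_eq_iSup_coheight, iSup_le_iff]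
  refine ⟨fun h q hq hs => (coheight_suppBelow_le_iff M k Q ⟨q, hq, hs⟩ n).1 (by exact_mod_cast h ⟨q, hq, hs⟩),
    fun h q => ?_⟩
  exact_mod_cast (coheight_suppBelow_le_iff M k Q q n).2 (h q.1 q.2.1 q.2.2)

theorem hasSk_localized_iff (Q : PrimeSpectrum R) (m : ℕ) :
    LocCoh.HasSk m (Localization.AtPrime Q.asIdeal) (LocalizedModule Q.asIdeal.primeCompl M) ↔
      ∀ q ≤ Q, min (m : WithBot ℕ∞)
          (Module.supportDim (Localization.AtPrime q.asIdeal) (LocalizedModule q.asIdeal.primeCompl M)) ≤
        ((LocCoh.depth (Localization.AtPrime q.asIdeal) (LocalizedModule q.asIdeal.primeCompl M) : ℕ∞) : WithBot ℕ∞) := by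
  rw [Alg6.hasSk_localization_iff]
  exact ⟨fun h q hq => h q.asIdeal (Set.disjoint_left.2 fun x hx hxq => hx (hq hxq)),
    fun h q hqp hd => h ⟨q, hqp⟩ fun x hx => by_contra fun hxQ => Set.disjoint_left.1 hd hxQ hx⟩

include k in
/-- Equidimensionality of a localization of a module. -/
theorem isEquidimModule_localized_iff (Q : PrimeSpectrum R) :
    EGA4.IsEquidimModule (Localization.AtPrime Q.asIdeal) (LocalizedModule Q.asIdeal.primeCompl M) ↔
      ∀ q q' : SuppBelow M Q, IsMin q → IsMin q' → Order.coheight q.1 = Order.coheight q'.1 := by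
  let L := Localization.AtPrime Q.asIdeal
  let N := LocalizedModule Q.asIdeal.primeCompl M
  haveI : Module.Finite L N :=
    Module.Finite.of_isLocalizedModule Q.asIdeal.primeCompl (LocalizedModule.mkLinearMap _ M)
  let e := suppIso M Q
  have hsupp : ∀ P : PrimeSpectrum L, P ∈ Module.support L N ↔ Module.annihilator L N ≤ P.asIdeal :=
    fun P => Module.mem_support_iff_of_finite
  have hdim : ∀ P : Module.support L N, ringKrullDim (L ⧸ P.1.asIdeal) = ((Order.coheight (e P) : ℕ∞) : WithBot ℕ∞) := by
    intro P
    rw [← VarDim.coheight_eq_ringKrullDim_quotient, Order.coheight_orderIso]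
    congr 1
    exact (Order.coheight_eq_of_strictMono (fun a : Module.support L N => a.1) (fun _ _ h => h)
      (fun a b hb => ⟨⟨b, Module.mem_support_mono hb.le a.2⟩, hb, rfl⟩) P).symm
  have hmin : ∀ P : Module.support L N, P.1.asIdeal ∈ (Module.annihilator L N).minimalPrimes ↔ IsMin (e P) := by
    intro P
    constructor
    · intro h q hq
      have h2 : e.symm q ≤ P := by rwa [← e.le_iff_le, e.apply_symm_apply]
      have h3 : P ≤ e.symm q := h.2 ⟨(e.symm q).1.2, (hsupp _).1 (e.symm q).2⟩ h2
      rw [← e.apply_symm_apply q]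
      exact e.monotone h3
    · intro h
      refine ⟨⟨P.1.2, (hsupp _).1 P.2⟩, fun I hI hIP => ?_⟩
      let P' : Module.support L N := ⟨⟨I, hI.1⟩, (hsupp _).2 hI.2⟩
      exact e.le_iff_le.1 (h (e.monotone (show P' ≤ P from hIP)))
  constructor
  · intro h q q' hq hq'
    have h1 := h _ ((hmin (e.symm q)).2 (by rwa [e.apply_symm_apply]))
    have h2 := h _ ((hmin (e.symm q')).2 (by rwa [e.apply_symm_apply]))
    rw [hdim, e.apply_symm_apply] at h1 h2
    rw [← coheight_suppBelow M k Q q, ← coheight_suppBelow M k Q q']
    exact congrArg (· + _) (WithBot.coe_inj.1 (h1.trans h2.symm))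
  · intro h p hp
    haveI := hp.1.1
    let P : Module.support L N := ⟨⟨p, hp.1.1⟩, (hsupp _).2 hp.1.2⟩
    refine (hdim P).trans ?_
    rw [Module.supportDim, Order.krullDim_eq_of_orderIso e, Order.krullDim_eq_iSup_coheight]
    refine le_antisymm (le_iSup (fun q : SuppBelow M Q => ((Order.coheight q : ℕ∞) : WithBot ℕ∞)) (e P))
      (iSup_le fun q => WithBot.coe_le_coe.2 ?_)
    obtain ⟨I, hI, hIq⟩ := Ideal.exists_minimalPrimes_le ((hsupp _).1 (e.symm q).2)
    let P' : Module.support L N := ⟨⟨I, hI.1.1⟩, (hsupp _).2 hI.1.2⟩
    have hle : e P' ≤ q := by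
      rw [← e.apply_symm_apply q]
      exact e.monotone hIq
    refine (Order.coheight_anti hle).trans (le_of_eq ?_)
    refine WithTop.add_right_cancel (VarDim.coheight_ne_top k Q) ?_
    show Order.coheight (e P') + _ = Order.coheight (e P) + _
    erw [coheight_suppBelow M k Q (e P'), coheight_suppBelow M k Q (e P)]
    exact h _ _ ((hmin P').1 hI) ((hmin P).1 hp)

omit [Module.Finite R M] in
/-- `(S_m)` for any model of the localization. -/
theorem hasSk_model_iff (Q : PrimeSpectrum R) (L : Type u) [CommRing L] [Algebra R L]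
    [IsLocalization.AtPrime L Q.asIdeal] (G : Type u) [AddCommGroup G] [Module R G] [Module L G]
    [IsScalarTower R L G] (g : M →ₗ[R] G) [IsLocalizedModule Q.asIdeal.primeCompl g] (m : ℕ) :
    LocCoh.HasSk m L G ↔
      ∀ q ≤ Q, min (m : WithBot ℕ∞)
          (Module.supportDim (Localization.AtPrime q.asIdeal) (LocalizedModule q.asIdeal.primeCompl M)) ≤
        ((LocCoh.depth (Localization.AtPrime q.asIdeal) (LocalizedModule q.asIdeal.primeCompl M) : ℕ∞) : WithBot ℕ∞) := by
  have key : ∀ (P : Ideal L) [P.IsPrime] (q : PrimeSpectrum R), P.comap (algebraMap R L) = q.asIdeal →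
      (min (m : WithBot ℕ∞) (Module.supportDim (Localization.AtPrime P) (LocalizedModule P.primeCompl G)) ≤
          ((LocCoh.depth (Localization.AtPrime P) (LocalizedModule P.primeCompl G) : ℕ∞) : WithBot ℕ∞) ↔
        min (m : WithBot ℕ∞)
            (Module.supportDim (Localization.AtPrime q.asIdeal) (LocalizedModule q.asIdeal.primeCompl M)) ≤
          ((LocCoh.depth (Localization.AtPrime q.asIdeal) (LocalizedModule q.asIdeal.primeCompl M) : ℕ∞) : WithBot ℕ∞)) := by
    intro P _ q hq
    obtain ⟨q, hp⟩ := q
    subst hq
    haveI := IsLocalization.isLocalization_isLocalization_atPrime_isLocalization Q.asIdeal.primeCompl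
      (Localization.AtPrime P) P
    let φ : M →ₗ[R] LocalizedModule P.primeCompl G :=
      ((LocalizedModule.mkLinearMap P.primeCompl G).restrictScalars R).comp g
    haveI : IsLocalizedModule (P.comap (algebraMap R L)).primeCompl φ := by
      rw [isLocalizedModule_iff_isBaseChange _ (Localization.AtPrime P)]
      exact (IsLocalizedModule.isBaseChange Q.asIdeal.primeCompl L g).comp
        (IsLocalizedModule.isBaseChange P.primeCompl (Localization.AtPrime P)
          (LocalizedModule.mkLinearMap P.primeCompl G))
    rw [Alg6.supportDim_localized_eq (P.comap (algebraMap R L)) (Localization.AtPrime P) φ,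
      Alg6.depth_localized_eq (P.comap (algebraMap R L)) (Localization.AtPrime P) φ]
  constructor
  · intro h q hq
    have hdisj : Disjoint (Q.asIdeal.primeCompl : Set R) q.asIdeal :=
      Set.disjoint_left.mpr fun x hx hxt => hx (hq hxt)
    haveI := IsLocalization.isPrime_of_isPrime_disjoint Q.asIdeal.primeCompl L q.asIdeal q.2 hdisj
    exact (key _ q (IsLocalization.comap_map_of_isPrime_disjoint Q.asIdeal.primeCompl L q.2 hdisj)).1 (h _)
  · intro h P hP
    refine (key P (PrimeSpectrum.comap (algebraMap R L) ⟨P, hP⟩) rfl).2 (h _ ?_)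
    refine (Ideal.comap_mono (?_ : P ≤ _)).trans_eq (IsLocalization.AtPrime.comap_maximalIdeal L Q.asIdeal)
    haveI : IsLocalRing L := IsLocalization.AtPrime.isLocalRing L Q.asIdeal
    exact IsLocalRing.le_maximalIdeal hP.ne_top

/-- Equidimensionality is invariant under semilinear isomorphisms. -/
theorem isEquidimModule_congr {L L' : Type u} [CommRing L] [CommRing L'] {G G' : Type u} [AddCommGroup G]
    [Module L G] [AddCommGroup G'] [Module L' G'] (σ : L ≃+* L') (e : G ≃+ G')
    (he : ∀ (r : L) (x : G), e (r • x) = σ r • e x) :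
    EGA4.IsEquidimModule L G → EGA4.IsEquidimModule L' G' := by
  intro h p hp
  have hann : Module.annihilator L G = (Module.annihilator L' G').comap σ.toRingHom := by
    ext r
    simp only [Ideal.mem_comap, Module.mem_annihilator, RingEquiv.toRingHom_eq_coe, RingEquiv.coe_toRingHom]
    constructor
    · intro hr x
      obtain ⟨y, rfl⟩ := e.surjective x
      rw [← he, hr y, map_zero]
    · intro hr x
      exact e.injective (by rw [he, hr, map_zero])
  have hp' : p.comap σ.toRingHom ∈ (Module.annihilator L G).minimalPrimes := by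
    rw [hann, Ideal.comap_minimalPrimes_eq_of_surjective σ.surjective]
    exact ⟨p, hp, rfl⟩
  rw [← Alg6.supportDim_eq_of_semilinear σ.toRingHom σ.surjective e he, ← h _ hp']
  exact (ringKrullDim_eq_of_ringEquiv (Ideal.quotientEquiv (p.comap σ.toRingHom) p σ
    (Ideal.map_comap_of_surjective _ σ.surjective p).symm)).symm

include k in
theorem isEquidimModule_model_iff (Q : PrimeSpectrum R) (L : Type u) [CommRing L] [Algebra R L]
    [IsLocalization.AtPrime L Q.asIdeal] (G : Type u) [AddCommGroup G] [Module R G] [Module L G]
    [IsScalarTower R L G] (g : M →ₗ[R] G) [IsLocalizedModule Q.asIdeal.primeCompl g] :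
    EGA4.IsEquidimModule L G ↔
      ∀ q q' : SuppBelow M Q, IsMin q → IsMin q' → Order.coheight q.1 = Order.coheight q'.1 := by
  rw [← isEquidimModule_localized_iff M k Q]
  let σ := (IsLocalization.algEquiv Q.asIdeal.primeCompl (Localization.AtPrime Q.asIdeal) L).toRingEquiv
  let e := (IsLocalizedModule.iso Q.asIdeal.primeCompl g).toAddEquiv
  have he : ∀ r x, e (r • x) = σ r • e x := Alg6.iso_semilinear Q.asIdeal L g
  refine ⟨isEquidimModule_congr σ.symm e.symm (fun r x => e.injective ?_), isEquidimModule_congr σ e he⟩
  rw [he, σ.apply_symm_apply, e.apply_symm_apply, e.apply_symm_apply]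

end Groth.Agent.AssDimLoci
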