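import Groth.Agent.AssDimLoci.Topo
import Groth.Agent.AssDimLoci.Alg
import Groth.Agent.Codepth5.Rect
import Groth.Agent.Codepth5.CM
import Groth.Agent.AssLib.Basic
import Groth.Agent.QCoh.AnnIdeal
import Groth.Agent.S5752
import Groth.Agent.QCoh.RpushStalk
import Groth.Agent.QCoh.Pullback

/-!
# The fibre module: support, associated points, dimensions
-/

set_option autoImplicit false
set_option linter.style.haveILetI false
set_option linter.unusedSectionVars false
set_option linter.deprecated false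
set_option backward.isDefEq.respectTransparency false
set_option backward.isDefEq.respectTransparency.types false

universe u

open AlgebraicGeometry CategoryTheory IsLocalRing

namespace Groth.Agent.AssDimLoci

variable {X Y : Scheme.{u}} (f : X ⟶ Y) (F : X.Modules)

/-- The depth of the fibre module at a point. -/
noncomputable def fdepth (x : X) : ℕ∞ :=
  LocCoh.depth ((f.fiber (f x)).presheaf.stalk (f.asFiber x))
    (((Scheme.Modules.pullback (f.fiberι (f x))).obj F).presheaf.stalk (f.asFiber x))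

/-- The restriction of `F` to the fibre. -/
noncomputable abbrev Fib (y : Y) : (f.fiber y).Modules := (Scheme.Modules.pullback (f.fiberι y)).obj F

theorem apply_fiberι (y : Y) (w : ↥(f.fiber y)) : f (f.fiberι y w) = y := FlatDvr.fiberι_apply_eq f w

theorem gen_fiberι_iff (y : Y) (w w' : ↥(f.fiber y)) : Gen f (f.fiberι y w) (f.fiberι y w') ↔ w' ⤳ w := by
  rw [Gen, apply_fiberι, apply_fiberι, (f.fiberι y).isEmbedding.isInducing.specializes_iff]
  exact and_iff_left rfl

theorem exists_fiberι_eq {y : Y} {w : ↥(f.fiber y)} {t : X} (h : Gen f (f.fiberι y w) t) :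
    ∃ w' : ↥(f.fiber y), f.fiberι y w' = t := by
  show t ∈ Set.range (f.fiberι y)
  rw [Scheme.Hom.range_fiberι]
  exact h.2.trans (apply_fiberι f y w)

theorem depth_stalk_fib (y : Y) (w : ↥(f.fiber y)) :
    LocCoh.depth ((f.fiber y).presheaf.stalk w) ((Fib f F y).presheaf.stalk w) = fdepth f F (f.fiberι y w) :=
  congrArg Prod.snd ((Codepth5.fibre_dd_eq f F _ y w rfl).trans
    (Codepth5.fibre_dd_eq f F _ _ _ (f.fiberι_asFiber (f.fiberι y w))).symm)

variable [LocallyOfFinitePresentation f] (hF : CohB1.IsFP F)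

theorem isLocallyNoetherian_fiber (y : Y) : IsLocallyNoetherian (f.fiber y) :=
  LocallyOfFiniteType.isLocallyNoetherian (f.fiberToSpecResidueField y)

include hF

theorem isQCoh_fib (y : Y) : Coh.IsQCoh (Fib f F y) := QCoh.isQCoh_pullback (f.fiberι y) (QCoh.isQCoh_of_isFP hF)

theorem isFT_fib (y : Y) : CohB1.IsFT (Fib f F y) :=
  QCoh.isFT_pullback (f.fiberι y) (QCoh.isQCoh_of_isFP hF) (QCoh.isFT_of_isFP hF)

theorem support_fib (y : Y) : CohB1.support (Fib f F y) = f.fiberι y ⁻¹' CohB1.support F :=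
  QCoh.support_pullback (f.fiberι y) (QCoh.isQCoh_of_isFP hF) (QCoh.isFT_of_isFP hF)

theorem mem_ass_iff (y : Y) (w : ↥(f.fiber y)) : w ∈ AssSch.Ass (Fib f F y) ↔ fdepth f F (f.fiberι y w) = 0 := by
  haveI := isLocallyNoetherian_fiber f y
  haveI := Codepth5.finite_fibre_stalk f F hF y w
  rw [AssLib.mem_ass_def, ← depth_stalk_fib]
  exact (Groth.Agent.S5752.result _ _).symm

theorem forall_ass_gen_iff (y : Y) (w : ↥(f.fiber y)) (P : X → Prop) :
    (∀ z ∈ AssSch.Ass (Fib f F y), z ⤳ w → P (f.fiberι y z)) ↔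
      ∀ t, fdepth f F t = 0 → Gen f (f.fiberι y w) t → P t := by
  constructor
  · intro h t ht hg
    obtain ⟨z, rfl⟩ := exists_fiberι_eq f hg
    exact h z ((mem_ass_iff f F hF y z).2 ht) ((gen_fiberι_iff f y w z).1 hg)
  · exact fun h z hz hzw => h _ ((mem_ass_iff f F hF y z).1 hz) ((gen_fiberι_iff f y w z).2 hzw)

omit hF in
theorem dim_closure (y : Y) (w : ↥(f.fiber y)) :
    topologicalKrullDim ↥(closure ({w} : Set ↥(f.fiber y))) = ((FibDim.rd f (f.fiberι y w) : ℕ∞) : WithBot ℕ∞) := by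
  rw [VarDim.topologicalKrullDim_closure_singleton (k := Y.residueField y) (f.fiberToSpecResidueField y) w,
    FibDim.deg_fiber]

theorem dims_iff (y : Y) (z : ↥(f.fiber y)) (Φ : Finset ℕ) :
    (∃ n ∈ Φ, topologicalKrullDim ↥(closure ({z} : Set ↥(f.fiber y))) = (n : WithBot ℕ∞)) ↔
      FibDim.rd f (f.fiberι y z) ∈ (Φ : Set ℕ) := by
  rw [dim_closure]
  exact ⟨fun ⟨n, hn, h⟩ => (show FibDim.rd f (f.fiberι y z) = n by exact_mod_cast h) ▸ hn,
    fun h => ⟨_, h, rfl⟩⟩

/-- An affine chart of a fibre: the stalk data as localizations. -/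
theorem exists_chart (y : Y) (w : ↥(f.fiber y)) :
    ∃ (U : (f.fiber y).Opens) (hU : IsAffineOpen U) (_ : w ∈ U)
      (_ : Algebra (Y.residueField y) Γ(f.fiber y, U)),
      Algebra.FiniteType (Y.residueField y) Γ(f.fiber y, U) ∧ Module.Finite Γ(f.fiber y, U) Γ(Fib f F y, U) ∧
      (∀ q : PrimeSpectrum Γ(f.fiber y, U), q ∈ Module.support Γ(f.fiber y, U) Γ(Fib f F y, U) ↔
        f.fiberι y (hU.fromSpec q) ∈ CohB1.support F) ∧
      ∀ q : PrimeSpectrum Γ(f.fiber y, U), Order.coheight q = (FibDim.rd f (f.fiberι y (hU.fromSpec q)) : ℕ∞) := by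
  haveI := isLocallyNoetherian_fiber f y
  obtain ⟨U, hU, hwU, -⟩ := exists_isAffineOpen_mem_and_subset (x := w) (U := ⊤) trivial
  obtain ⟨ia, hft⟩ := VarDim.exists_algebra (k := Y.residueField y) (f.fiberToSpecResidueField y) hU
  refine ⟨U, hU, hwU, ia, hft, QCoh.finite_of_isFT (isQCoh_fib f F hF y) (isFT_fib f F hF y) hU,
    fun q => ?_, fun q => ?_⟩
  · have hz : hU.fromSpec q ∈ U := VarDim.fromSpec_mem hU q
    rw [← Set.mem_preimage, ← support_fib f F hF y, ← QCoh.mem_moduleSupport_iff (isQCoh_fib f F hF y) hU hz,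
      show hU.primeIdealOf ⟨hU.fromSpec q, hz⟩ = q from
        hU.fromSpec.isOpenEmbedding.injective (hU.fromSpec_primeIdealOf ⟨_, hz⟩)]
  · rw [← FibDim.deg_fiber]
    exact VarDim.deg_eq_coheight (k := Y.residueField y) (f.fiberToSpecResidueField y) hU q

theorem dd_localized {y : Y} {U : (f.fiber y).Opens} (hU : IsAffineOpen U) {z : ↥(f.fiber y)} (hz : z ∈ U) :
    Codepth5.dd (Localization.AtPrime (hU.primeIdealOf ⟨z, hz⟩).asIdeal)
        (LocalizedModule (hU.primeIdealOf ⟨z, hz⟩).asIdeal.primeCompl Γ(Fib f F y, U)) =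
      Codepth5.dd ((f.fiber y).presheaf.stalk z) ((Fib f F y).presheaf.stalk z) := by
  letI := QCoh.stalkAlg (X := f.fiber y) hz
  letI := QCoh.stalkModule (Fib f F y) hz
  haveI := QCoh.isScalarTower_stalk (Fib f F y) hz
  haveI := QCoh.isLocalization_stalk' hU hz
  haveI := QCoh.isLocalizedModule_germLin (isQCoh_fib f F hF y) hU hz
  exact (Prod.ext
    (Alg6.supportDim_localized_eq (hU.primeIdealOf ⟨z, hz⟩).asIdeal ((f.fiber y).presheaf.stalk z) (QCoh.germLin (Fib f F y) hz))
    (Alg6.depth_localized_eq (hU.primeIdealOf ⟨z, hz⟩).asIdeal ((f.fiber y).presheaf.stalk z) (QCoh.germLin (Fib f F y) hz))).symm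

theorem supportDim_le_iff (y : Y) (w : ↥(f.fiber y)) (n : ℕ) :
    Module.supportDim ((f.fiber y).presheaf.stalk w) ((Fib f F y).presheaf.stalk w) ≤ n ↔
      ∀ t ∈ CohB1.support F, Gen f (f.fiberι y w) t → FibDim.rd f t ≤ FibDim.rd f (f.fiberι y w) + n := by
  obtain ⟨U, hU, hwU, ia, hft, hfin, hsupp, hco⟩ := exists_chart f F hF y w
  let Q := hU.primeIdealOf ⟨w, hwU⟩
  have hQ : hU.fromSpec Q = w := hU.fromSpec_primeIdealOf ⟨w, hwU⟩
  rw [show Module.supportDim ((f.fiber y).presheaf.stalk w) ((Fib f F y).presheaf.stalk w) = _ from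
    (congrArg Prod.fst (dd_localized f F hF hU hwU)).symm]
  refine (supportDim_localized_le_iff _ (Y.residueField y : Type u) Q n).trans ⟨fun h t ht hg => ?_, fun h q hq hs => ?_⟩
  · obtain ⟨z, rfl⟩ := exists_fiberι_eq f hg
    obtain ⟨q, rfl⟩ := VarDim.exists_fromSpec_eq hU (((gen_fiberι_iff f y w z).1 hg).mem_open U.2 hwU)
    have hle : q ≤ Q := (VarDim.fromSpec_specializes_iff hU q Q).1 (by rw [hQ]; exact (gen_fiberι_iff f y w _).1 hg)
    have h2 := h q hle ((hsupp q).2 ht)
    rw [hco, hco, hQ] at h2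
    exact_mod_cast h2
  · have hg : hU.fromSpec q ⤳ w := hQ ▸ (VarDim.fromSpec_specializes_iff hU q Q).2 hq
    rw [hco, hco, hQ]
    exact_mod_cast h _ ((hsupp q).1 hs) ((gen_fiberι_iff f y w _).2 hg)

omit [LocallyOfFinitePresentation f] hF in
theorem min_le_iff_forall {k : ℕ} {D : WithBot ℕ∞} {a : ℕ∞} :
    min (k : WithBot ℕ∞) D ≤ (a : WithBot ℕ∞) ↔ ∀ n : ℕ, n < k → a ≤ n → D ≤ n := by
  induction a using ENat.recTopCoe with
  | top => simp
  | coe a =>
    constructor
    · intro h n hn han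
      have han' : a ≤ n := by exact_mod_cast han
      rcases min_le_iff.1 h with h' | h'
      · have : k ≤ a := by exact_mod_cast h'
        omega
      · exact h'.trans (by exact_mod_cast han')
    · intro h
      by_cases hak : a < k
      · exact min_le_of_right_le (h a hak le_rfl)
      · exact min_le_of_left_le (by exact_mod_cast not_lt.1 hak)

theorem hasSk_iff (y : Y) (w : ↥(f.fiber y)) (k : ℕ) :
    LocCoh.HasSk k ((f.fiber y).presheaf.stalk w) ((Fib f F y).presheaf.stalk w) ↔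
      ∀ t ∈ CohB1.support F, Gen f (f.fiberι y w) t → ∀ n : ℕ, n < k → fdepth f F t ≤ n →
        ∀ t' ∈ CohB1.support F, Gen f t t' → FibDim.rd f t' ≤ FibDim.rd f t + n := by
  obtain ⟨U, hU, hwU, ia, hft, hfin, hsupp, hco⟩ := exists_chart f F hF y w
  let Q := hU.primeIdealOf ⟨w, hwU⟩
  have hQ : hU.fromSpec Q = w := hU.fromSpec_primeIdealOf ⟨w, hwU⟩
  letI := QCoh.stalkAlg (X := f.fiber y) hwU
  letI := QCoh.stalkModule (Fib f F y) hwU
  haveI := QCoh.isScalarTower_stalk (Fib f F y) hwU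
  haveI := QCoh.isLocalization_stalk' hU hwU
  haveI := QCoh.isLocalizedModule_germLin (isQCoh_fib f F hF y) hU hwU
  rw [hasSk_model_iff Γ(Fib f F y, U) Q ((f.fiber y).presheaf.stalk w) _ (QCoh.germLin (Fib f F y) hwU)]
  have key : ∀ q : PrimeSpectrum Γ(f.fiber y, U),
      min (k : WithBot ℕ∞) (Module.supportDim (Localization.AtPrime q.asIdeal) (LocalizedModule q.asIdeal.primeCompl Γ(Fib f F y, U))) ≤
          ((LocCoh.depth (Localization.AtPrime q.asIdeal) (LocalizedModule q.asIdeal.primeCompl Γ(Fib f F y, U)) : ℕ∞) : WithBot ℕ∞) ↔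
      ∀ n : ℕ, n < k → fdepth f F (f.fiberι y (hU.fromSpec q)) ≤ n →
        ∀ t' ∈ CohB1.support F, Gen f (f.fiberι y (hU.fromSpec q)) t' →
          FibDim.rd f t' ≤ FibDim.rd f (f.fiberι y (hU.fromSpec q)) + n := by
    intro q
    have hz : hU.fromSpec q ∈ U := VarDim.fromSpec_mem hU q
    have h := dd_localized f F hF hU hz
    rw [show hU.primeIdealOf ⟨hU.fromSpec q, hz⟩ = q from
        hU.fromSpec.isOpenEmbedding.injective (hU.fromSpec_primeIdealOf ⟨_, hz⟩)] at h
    rw [show Module.supportDim (Localization.AtPrime q.asIdeal) (LocalizedModule q.asIdeal.primeCompl Γ(Fib f F y, U)) = _ from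
        congrArg Prod.fst h,
      show LocCoh.depth (Localization.AtPrime q.asIdeal) (LocalizedModule q.asIdeal.primeCompl Γ(Fib f F y, U)) = _ from
        congrArg Prod.snd h]
    show min (k : WithBot ℕ∞) (Module.supportDim _ _) ≤ ((LocCoh.depth _ _ : ℕ∞) : WithBot ℕ∞) ↔ _
    rw [depth_stalk_fib, min_le_iff_forall]
    exact forall_congr' fun n => imp_congr_right fun _ => imp_congr_right fun _ => supportDim_le_iff f F hF y _ n
  refine ⟨fun h t ht hg => ?_, fun h q hq => (key q).2 fun n hn ha t' ht' hg' => ?_⟩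
  · obtain ⟨z, rfl⟩ := exists_fiberι_eq f hg
    obtain ⟨q, rfl⟩ := VarDim.exists_fromSpec_eq hU (((gen_fiberι_iff f y w z).1 hg).mem_open U.2 hwU)
    exact (key q).1 (h q ((VarDim.fromSpec_specializes_iff hU q Q).1 (by rw [hQ]; exact (gen_fiberι_iff f y w _).1 hg)))
  · have hg : hU.fromSpec q ⤳ w := hQ ▸ (VarDim.fromSpec_specializes_iff hU q Q).2 hq
    by_cases hs : f.fiberι y (hU.fromSpec q) ∈ CohB1.support F
    · exact h _ hs ((gen_fiberι_iff f y w _).2 hg) n hn ha t' ht' hg'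
    · exact absurd (hg'.1.mem_closed (QCoh.isClosed_support_of_isFT (QCoh.isQCoh_of_isFP hF) (QCoh.isFT_of_isFP hF)) ht') hs

theorem isEquidimModule_iff (y : Y) (w : ↥(f.fiber y)) :
    EGA4.IsEquidimModule ((f.fiber y).presheaf.stalk w) ((Fib f F y).presheaf.stalk w) ↔
      ∀ t t', t ∈ CohB1.support F → (∀ s ∈ CohB1.support F, Gen f t s → s = t) →
        t' ∈ CohB1.support F → (∀ s ∈ CohB1.support F, Gen f t' s → s = t') →
        Gen f (f.fiberι y w) t → Gen f (f.fiberι y w) t' → FibDim.rd f t = FibDim.rd f t' := by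
  obtain ⟨U, hU, hwU, ia, hft, hfin, hsupp, hco⟩ := exists_chart f F hF y w
  let Q := hU.primeIdealOf ⟨w, hwU⟩
  have hQ : hU.fromSpec Q = w := hU.fromSpec_primeIdealOf ⟨w, hwU⟩
  letI := QCoh.stalkAlg (X := f.fiber y) hwU
  letI := QCoh.stalkModule (Fib f F y) hwU
  haveI := QCoh.isScalarTower_stalk (Fib f F y) hwU
  haveI := QCoh.isLocalization_stalk' hU hwU
  haveI := QCoh.isLocalizedModule_germLin (isQCoh_fib f F hF y) hU hwU
  rw [isEquidimModule_model_iff Γ(Fib f F y, U) (Y.residueField y : Type u) Q ((f.fiber y).presheaf.stalk w) _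
    (QCoh.germLin (Fib f F y) hwU)]
  let φ : PrimeSpectrum Γ(f.fiber y, U) → X := fun q => f.fiberι y (hU.fromSpec q)
  have hφ : ∀ q q', Gen f (φ q) (φ q') ↔ q' ≤ q := fun q q' =>
    (gen_fiberι_iff f y _ _).trans (VarDim.fromSpec_specializes_iff hU q' q)
  have hQw : φ Q = f.fiberι y w := congrArg (f.fiberι y) hQ
  have hsurj : ∀ t, Gen f (f.fiberι y w) t → ∃ q, q ≤ Q ∧ φ q = t := fun t hg => by
    obtain ⟨z, rfl⟩ := exists_fiberι_eq f hg
    obtain ⟨q, rfl⟩ := VarDim.exists_fromSpec_eq hU (((gen_fiberι_iff f y w z).1 hg).mem_open U.2 hwU)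
    exact ⟨q, (hφ Q q).1 (hQw.symm ▸ hg), rfl⟩
  have hmin : ∀ q : SuppBelow Γ(Fib f F y, U) Q,
      IsMin q ↔ ∀ s ∈ CohB1.support F, Gen f (φ q.1) s → s = φ q.1 := by
    intro q
    have hgq : Gen f (f.fiberι y w) (φ q.1) := hQw ▸ (hφ Q q.1).2 q.2.1
    constructor
    · intro h s hs hg
      obtain ⟨r, hr, rfl⟩ := hsurj s (Gen.trans f hgq hg)
      have hrq : r ≤ q.1 := (hφ q.1 r).1 hg
      have hqr : q ≤ ⟨r, hr, (hsupp r).2 hs⟩ := h (show (⟨r, hr, (hsupp r).2 hs⟩ : SuppBelow Γ(Fib f F y, U) Q) ≤ q from hrq)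
      rw [le_antisymm hrq hqr]
    · intro h r hr
      have he := h (φ r.1) ((hsupp r.1).1 r.2.2) ((hφ q.1 r.1).2 hr)
      exact le_of_eq (Subtype.ext (hU.fromSpec.isOpenEmbedding.injective ((f.fiberι y).isEmbedding.injective he)).symm)
  constructor
  · intro h t t' ht htm ht' htm' hg hg'
    obtain ⟨q, hq, rfl⟩ := hsurj t hg
    obtain ⟨q', hq', rfl⟩ := hsurj t' hg'
    have h2 := h ⟨q, hq, (hsupp q).2 ht⟩ ⟨q', hq', (hsupp q').2 ht'⟩ ((hmin _).2 htm) ((hmin _).2 htm')
    rw [hco, hco] at h2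
    exact_mod_cast h2
  · intro h q q' hm hm'
    rw [hco, hco]
    exact_mod_cast h (φ q.1) (φ q'.1) ((hsupp q.1).1 q.2.2) ((hmin q).1 hm) ((hsupp q'.1).1 q'.2.2) ((hmin q').1 hm')
      (hQw ▸ (hφ Q q.1).2 q.2.1) (hQw ▸ (hφ Q q'.1).2 q'.2.1)

/-- The depth data of a flat module of finite presentation. -/
theorem depthData (hflat : FlatMod.IsFlatOver f F) : DepthData f (CohB1.support F) (fdepth f F) where
  closed := QCoh.isClosed_support_of_isFT (QCoh.isQCoh_of_isFP hF) (QCoh.isFT_of_isFP hF)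
  top_of_notMem x hx := by
    haveI := isLocallyNoetherian_fiber f (f x)
    have : Subsingleton ((Fib f F (f x)).presheaf.stalk (f.asFiber x)) := by_contra fun h => hx (by
      have h2 : f.asFiber x ∈ CohB1.support (Fib f F (f x)) := h
      rw [support_fib f F hF, Set.mem_preimage, f.fiberι_asFiber] at h2
      exact h2)
    exact FlatLoc6.depth_top_of_subsingleton _
  maximal t ht hmax := by
    haveI := isLocallyNoetherian_fiber f (f t)
    have hs : f.asFiber t ∈ CohB1.support (Fib f F (f t)) := by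
      rw [support_fib f F hF, Set.mem_preimage, f.fiberι_asFiber]
      exact ht
    obtain ⟨z, hz, hzt⟩ := AssLib.exists_ass_specializes (isQCoh_fib f F hF _) hs
    have hzS : f.fiberι (f t) z ∈ CohB1.support F := by
      have h2 := AssLib.mem_support_of_mem_ass hz
      rw [support_fib f F hF] at h2
      exact h2
    have hg : Gen f t (f.fiberι (f t) z) := by
      have h2 := (gen_fiberι_iff f (f t) (f.asFiber t) z).2 hzt
      rwa [f.fiberι_asFiber] at h2
    exact hmax _ hzS hg ▸ (mem_ass_iff f F hF _ z).1 hz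
  openR n := by
    convert Codepth5.isOpen_rect f F hF hflat n using 1
    ext x
    have h : topologicalKrullDim ↥(closure ({f.asFiber x} : Set ↥(f.fiber (f x)))) = ((FibDim.rd f x : ℕ∞) : WithBot ℕ∞) :=
      (dim_closure f (f x) (f.asFiber x)).trans (by rw [f.fiberι_asFiber])
    show (n : ℕ∞) ≤ fdepth f F x + _ ↔ (n : WithBot ℕ∞) ≤ ((fdepth f F x : ℕ∞) : WithBot ℕ∞) + topologicalKrullDim ↥(closure ({f.asFiber x} : Set ↥(f.fiber (f x))))
    rw [h]
    exact_mod_cast Iff.rfl

/-- A point of the support is a component generic point exactly when it is maximal. -/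
theorem exists_component_iff (y : Y) (n : WithBot ℕ∞) :
    (∃ Z ∈ irreducibleComponents ↥{z : ↥(f.fiber y) | Nontrivial ((Fib f F y).presheaf.stalk z)},
        topologicalKrullDim ↥Z = n) ↔
      ∃ t ∈ CohB1.support F, f t = y ∧ (∀ s ∈ CohB1.support F, Gen f t s → s = t) ∧
        ((FibDim.rd f t : ℕ∞) : WithBot ℕ∞) = n := by
  let C : Set ↥(f.fiber y) := {z | Nontrivial ((Fib f F y).presheaf.stalk z)}
  have hC : C = f.fiberι y ⁻¹' CohB1.support F := by
    rw [← support_fib f F hF y]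
    ext z
    exact not_subsingleton_iff_nontrivial.symm
  have hcl : IsClosed C := hC ▸ ((QCoh.isClosed_support_of_isFT (QCoh.isQCoh_of_isFP hF) (QCoh.isFT_of_isFP hF)).preimage
    (f.fiberι y).continuous)
  haveI : QuasiSober ↥C := hcl.isClosedEmbedding_subtypeVal.quasiSober
  have hdim : ∀ (g : C), topologicalKrullDim ↥(closure ({g} : Set C)) = ((FibDim.rd f (f.fiberι y g.1) : ℕ∞) : WithBot ℕ∞) := by
    intro g
    rw [← dim_closure f y g.1]
    refine ((Topology.IsEmbedding.subtypeVal.homeomorphImage _).trans (Homeomorph.setCongr ?_)).isHomeomorph.topologicalKrullDim_eq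
    rw [← hcl.isClosedEmbedding_subtypeVal.closure_image_eq, Set.image_singleton]
  show (∃ Z ∈ irreducibleComponents ↥C, _) ↔ _
  constructor
  · rintro ⟨Z, hZ, rfl⟩
    have hg := hZ.1.isGenericPoint_genericPoint_closure
    rw [(isClosed_of_mem_irreducibleComponents Z hZ).closure_eq] at hg
    refine ⟨f.fiberι y hZ.1.genericPoint.1, hC.le hZ.1.genericPoint.2, apply_fiberι f y _, fun s hs hgs => ?_, ?_⟩
    · obtain ⟨z, rfl⟩ := exists_fiberι_eq f hgs
      let c : C := ⟨z, hC.ge hs⟩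
      have hsp : c ⤳ hZ.1.genericPoint := (subtype_specializes_iff _ _).2 ((gen_fiberι_iff f y _ z).1 hgs)
      have hle : Z ⊆ closure {c} := hg.def ▸ (specializes_iff_closure_subset.1 hsp)
      have hc : c ∈ Z := hZ.2 isIrreducible_singleton.closure hle (subset_closure rfl)
      exact congrArg (fun a : C => f.fiberι y a.1) ((hg.specializes hc).antisymm hsp).eq.symm
    · rw [← hdim, hg.def]
  · rintro ⟨t, ht, hty, hmax, rfl⟩
    obtain ⟨z, rfl⟩ : t ∈ Set.range (f.fiberι y) := by rw [Scheme.Hom.range_fiberι]; exact hty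
    let g : C := ⟨z, hC.ge ht⟩
    refine ⟨closure {g}, ⟨isIrreducible_singleton.closure, fun Z hZ hle => ?_⟩, hdim g⟩
    intro a ha
    have h1 := hZ.isGenericPoint_genericPoint_closure
    have hsp : hZ.genericPoint ⤳ g := h1.specializes (subset_closure (hle (subset_closure rfl)))
    have he := hmax _ (hC.le hZ.genericPoint.2) ((gen_fiberι_iff f y z _).2 ((subtype_specializes_iff _ _).1 hsp))
    have he2 : hZ.genericPoint = g := Subtype.ext ((f.fiberι y).isEmbedding.injective he)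
    rw [← he2, h1.def]
    exact subset_closure ha

end Groth.Agent.AssDimLoci
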