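import Groth.Agent.AssDimLoci.Ring
import Groth.Agent.S7606
import Groth.Agent.S1562
import Groth.Agent.S2155
import Groth.Agent.SmoothReg.Scheme
import Groth.Agent.FibreLoc5.Smooth

/-!
# The geometric condition `(R_k)` at a point, through the smooth locus
-/

set_option autoImplicit false
set_option linter.style.haveILetI false
set_option linter.unusedSectionVars false
set_option linter.deprecated false
set_option backward.isDefEq.respectTransparency false
set_option backward.isDefEq.respectTransparency.types false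

universe u

open AlgebraicGeometry CategoryTheory IsLocalRing Limits

namespace Groth.Agent.AssDimLoci

/-- The local ring at a generization is a localization of the local ring. -/
theorem exists_prime_of_specializes {Z : Scheme.{u}} {x t : Z} (h : t ⤳ x) :
    ∃ (P : Ideal (Z.presheaf.stalk x)) (_ : P.IsPrime),
      Nonempty (Localization.AtPrime P ≃+* Z.presheaf.stalk t) := by
  obtain ⟨U, hU, hxU, -⟩ := exists_isAffineOpen_mem_and_subset (x := x) (U := ⊤) trivial
  have htU : t ∈ U := h.mem_open U.2 hxU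
  letI := QCoh.stalkAlg (X := Z) hxU
  letI := QCoh.stalkAlg (X := Z) htU
  haveI := QCoh.isLocalization_stalk' hU hxU
  haveI := QCoh.isLocalization_stalk' hU htU
  let q := hU.primeIdealOf ⟨t, htU⟩
  let Q := hU.primeIdealOf ⟨x, hxU⟩
  have hle : q ≤ Q := (AssLib.primeIdealOf_le_iff hU hxU htU).2 h
  have hdisj : Disjoint (Q.asIdeal.primeCompl : Set Γ(Z, U)) q.asIdeal :=
    Set.disjoint_left.mpr fun a ha haq => ha (hle haq)
  let P := q.asIdeal.map (algebraMap Γ(Z, U) (Z.presheaf.stalk x))
  haveI hP : P.IsPrime := IsLocalization.isPrime_of_isPrime_disjoint Q.asIdeal.primeCompl _ q.asIdeal q.2 hdisj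
  have hcomap : P.comap (algebraMap Γ(Z, U) (Z.presheaf.stalk x)) = q.asIdeal :=
    IsLocalization.comap_map_of_isPrime_disjoint Q.asIdeal.primeCompl _ q.2 hdisj
  refine ⟨P, hP, ?_⟩
  haveI := IsLocalization.isLocalization_isLocalization_atPrime_isLocalization Q.asIdeal.primeCompl
    (Localization.AtPrime P) P
  have key : ∀ (q' : Ideal Γ(Z, U)) [q'.IsPrime], q' = q.asIdeal →
      Nonempty (Localization.AtPrime q' ≃+* Z.presheaf.stalk t) := by
    intro q' _ hq'
    subst hq'
    exact ⟨(IsLocalization.algEquiv q.asIdeal.primeCompl _ _).toRingEquiv⟩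
  obtain ⟨e⟩ := key (P.comap (algebraMap Γ(Z, U) (Z.presheaf.stalk x))) hcomap
  exact ⟨(IsLocalization.algEquiv (P.comap (algebraMap Γ(Z, U) (Z.presheaf.stalk x))).primeCompl
    (Localization.AtPrime P) (Localization.AtPrime (P.comap (algebraMap Γ(Z, U) (Z.presheaf.stalk x))))).toRingEquiv.trans e⟩

/-- Every prime of a local ring of a scheme comes from a generization. -/
theorem exists_specializes_of_prime {Z : Scheme.{u}} {x : Z} (P : Ideal (Z.presheaf.stalk x)) [P.IsPrime] :
    ∃ t, t ⤳ x ∧ Nonempty (Localization.AtPrime P ≃+* Z.presheaf.stalk t) := by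
  obtain ⟨U, hU, hxU, -⟩ := exists_isAffineOpen_mem_and_subset (x := x) (U := ⊤) trivial
  letI := QCoh.stalkAlg (X := Z) hxU
  haveI := QCoh.isLocalization_stalk' hU hxU
  obtain ⟨t, htU, ht⟩ := QCoh.exists_point hU (PrimeSpectrum.comap (algebraMap Γ(Z, U) (Z.presheaf.stalk x)) ⟨P, ‹_›⟩)
  letI := QCoh.stalkAlg (X := Z) htU
  haveI := QCoh.isLocalization_stalk' hU htU
  refine ⟨t, (AssLib.primeIdealOf_le_iff hU hxU htU).1 ?_, ?_⟩
  · rw [ht]
    show P.comap _ ≤ _
    exact le_of_le_of_eq (Ideal.comap_mono (le_maximalIdeal Ideal.IsPrime.ne_top')) (AssLib.comap_maximalIdeal_stalk hU hxU)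
  · haveI := IsLocalization.isLocalization_isLocalization_atPrime_isLocalization
      (hU.primeIdealOf ⟨x, hxU⟩).asIdeal.primeCompl (Localization.AtPrime P) P
    have key : ∀ (q' : Ideal Γ(Z, U)) [q'.IsPrime], q' = (hU.primeIdealOf ⟨t, htU⟩).asIdeal →
        Nonempty (Localization.AtPrime q' ≃+* Z.presheaf.stalk t) := by
      intro q' _ hq'
      subst hq'
      exact ⟨(IsLocalization.algEquiv (hU.primeIdealOf ⟨t, htU⟩).asIdeal.primeCompl _ _).toRingEquiv⟩
    obtain ⟨e⟩ := key (P.comap (algebraMap Γ(Z, U) (Z.presheaf.stalk x))) (congrArg PrimeSpectrum.asIdeal ht).symm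
    exact ⟨(IsLocalization.algEquiv (P.comap (algebraMap Γ(Z, U) (Z.presheaf.stalk x))).primeCompl
      (Localization.AtPrime P) (Localization.AtPrime (P.comap (algebraMap Γ(Z, U) (Z.presheaf.stalk x))))).toRingEquiv.trans e⟩

theorem hasRk_stalk_iff {Z : Scheme.{u}} (x : Z) (k : ℕ) :
    LocCoh.HasRk k (Z.presheaf.stalk x) ↔
      ∀ t, t ⤳ x → ringKrullDim (Z.presheaf.stalk t) ≤ k → IsRegularLocalRing (Z.presheaf.stalk t) := by
  have key : ∀ (P : Ideal (Z.presheaf.stalk x)) [P.IsPrime] (t : Z),
      Nonempty (Localization.AtPrime P ≃+* Z.presheaf.stalk t) →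
      ((P.height ≤ k → IsRegularLocalRing (Localization.AtPrime P)) ↔
        (ringKrullDim (Z.presheaf.stalk t) ≤ k → IsRegularLocalRing (Z.presheaf.stalk t))) := by
    rintro P _ t ⟨e⟩
    rw [← ringKrullDim_eq_of_ringEquiv e, IsLocalization.AtPrime.ringKrullDim_eq_height P]
    exact imp_congr (by exact_mod_cast Iff.rfl)
      ⟨fun h => IsRegularLocalRing.of_ringEquiv e, fun h => IsRegularLocalRing.of_ringEquiv e.symm⟩
  constructor
  · intro h t ht
    obtain ⟨P, hP, he⟩ := exists_prime_of_specializes ht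
    exact (key P t he).1 (h P)
  · intro h P hP
    obtain ⟨t, ht, he⟩ := exists_specializes_of_prime P
    exact (key P t he).2 (h t ht)

section Field

variable {k : Type u} [Field k] {Z : Scheme.{u}} (q : Z ⟶ Spec (CommRingCat.of k)) [LocallyOfFiniteType q]

theorem locallyOfFinitePresentation_over_field : LocallyOfFinitePresentation q := FibreLoc5.lfp_of_noetherian' q

theorem mem_smoothLocus_iff_forall_regular [LocallyOfFinitePresentation q] (t : Z) :
    t ∈ q.smoothLocus ↔ ∀ (K : Type u) [Field K] [Algebra k K], Module.Finite k K →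
      ∀ t' : ↥(FBase.bc q K), (FBase.bcπ q K).base t' = t → IsRegularLocalRing ((FBase.bc q K).presheaf.stalk t') := by
  letI : Z.Over (Spec (CommRingCat.of k)) := ⟨q⟩
  haveI : LocallyOfFinitePresentation (Z ↘ Spec (CommRingCat.of k)) := ‹LocallyOfFinitePresentation q›
  haveI : IsLocallyNoetherian Z := LocallyOfFiniteType.isLocallyNoetherian q
  refine (Groth.Agent.S1562.result k Z t).symm.trans ⟨fun h K _ _ hK t' ht' => ?_, fun h => ?_⟩
  · exact h K (IntermediateField.fg_top_iff.2 inferInstance) t' ht'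
  · exact (Groth.Agent.S7606.result k Z t).1.2 fun K _ _ hK _ t' ht' => h K hK t' ht'

variable (K : Type u) [Field K] [Algebra k K] [Module.Finite k K]

theorem isFinite_bcπ : IsFinite (FBase.bcπ q K) := by
  haveI : IsFinite (Spec.map (CommRingCat.ofHom (algebraMap k K))) :=
    (IsFinite.SpecMap_iff _).2 (RingHom.finite_algebraMap.2 ‹_›)
  exact MorphismProperty.pullback_fst _ _ inferInstance

theorem flat_bcπ : Flat (FBase.bcπ q K) := by
  haveI : Flat (Spec.map (CommRingCat.ofHom (algebraMap k K))) :=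
    Flat.SpecMap_iff.2 (RingHom.flat_algebraMap_iff.2 inferInstance)
  exact MorphismProperty.pullback_fst _ _ inferInstance

/-- The dimension of the local ring is unchanged by a finite extension of the base field. -/
theorem dim_stalk_bc (t' : ↥(FBase.bc q K)) :
    ringKrullDim ((FBase.bc q K).presheaf.stalk t') = ringKrullDim (Z.presheaf.stalk ((FBase.bcπ q K).base t')) := by
  let π := FBase.bcπ q K
  haveI : IsFinite π := isFinite_bcπ q K
  haveI : Flat π := flat_bcπ q K
  obtain ⟨U, hU, hxU, -⟩ := exists_isAffineOpen_mem_and_subset (x := π.base t') (U := ⊤) trivial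
  let V := π ⁻¹ᵁ U
  have hV : IsAffineOpen V := hU.preimage π
  letI : Algebra Γ(Z, U) Γ(FBase.bc q K, V) := (π.appLE U V le_rfl).hom.toAlgebra
  haveI hfin : Module.Finite Γ(Z, U) Γ(FBase.bc q K, V) :=
    RingHom.finite_algebraMap.1 (show (π.appLE U V le_rfl).hom.Finite by
      rw [← π.app_eq_appLE]; exact π.finite_app U hU)
  haveI hflat : Module.Flat Γ(Z, U) Γ(FBase.bc q K, V) :=
    RingHom.flat_algebraMap_iff.1 (show (π.appLE U V le_rfl).hom.Flat from π.flat_appLE hU hV le_rfl)
  have htV : t' ∈ V := hxU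
  letI := QCoh.stalkAlg (X := FBase.bc q K) htV
  letI := QCoh.stalkAlg (X := Z) hxU
  haveI := QCoh.isLocalization_stalk' hV htV
  haveI := QCoh.isLocalization_stalk' hU hxU
  rw [IsLocalization.AtPrime.ringKrullDim_eq_height (hV.primeIdealOf ⟨t', htV⟩).asIdeal ((FBase.bc q K).presheaf.stalk t'),
    IsLocalization.AtPrime.ringKrullDim_eq_height (hU.primeIdealOf ⟨π.base t', hxU⟩).asIdeal (Z.presheaf.stalk (π.base t'))]
  have hp : PrimeSpectrum.comap (algebraMap Γ(Z, U) Γ(FBase.bc q K, V)) (hV.primeIdealOf ⟨t', htV⟩) =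
      hU.primeIdealOf ⟨π.base t', hxU⟩ := by
    refine hU.fromSpec.isOpenEmbedding.injective ?_
    rw [hU.fromSpec_primeIdealOf]
    show (Spec.map (π.appLE U V le_rfl) ≫ hU.fromSpec) _ = _
    rw [hU.SpecMap_appLE_fromSpec π hV le_rfl, Scheme.Hom.comp_apply, hV.fromSpec_primeIdealOf]
  rw [← hp, PrimeSpectrum.height_eq_orderHeight, PrimeSpectrum.height_eq_orderHeight, WithBot.coe_inj]
  exact (VarDim.height_comap _).symm

/-- Geometric `(R_k)` at a point: smooth at the generizations of codimension at most `k`. -/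
theorem geomRk_iff [LocallyOfFinitePresentation q] (n : ℕ) (w : Z) :
    (∀ (K : Type u) [Field K] [Algebra k K], Module.Finite k K →
        ∀ x' : ↥(FBase.bc q K), (FBase.bcπ q K).base x' = w → LocCoh.HasRk n ((FBase.bc q K).presheaf.stalk x')) ↔
      ∀ t, t ⤳ w → ringKrullDim (Z.presheaf.stalk t) ≤ n → t ∈ q.smoothLocus := by
  constructor
  · intro h t ht hdim
    refine (mem_smoothLocus_iff_forall_regular q t).2 fun K _ _ hK t' ht' => ?_
    haveI := hK
    haveI := isFinite_bcπ q K
    obtain ⟨x'', hx'', hπ⟩ := (FBase.bcπ q K).isClosedMap.specializingMap (show (FBase.bcπ q K).base t' ⤳ w by rw [ht']; exact ht)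
    exact (hasRk_stalk_iff x'' n).1 (h K hK x'' hπ) t' hx'' (by rw [dim_stalk_bc q K, ht']; exact hdim)
  · intro h K _ _ hK x' hx'
    haveI := hK
    refine (hasRk_stalk_iff x' n).2 fun t' ht' hdim => ?_
    have hπ : (FBase.bcπ q K).base t' ⤳ w := hx' ▸ ht'.map (FBase.bcπ q K).continuous
    rw [dim_stalk_bc q K] at hdim
    exact (mem_smoothLocus_iff_forall_regular q _).1 (h _ hπ hdim) K hK t' rfl

end Field

section Relative

variable {X Y : Scheme.{u}} (f : X ⟶ Y) [LocallyOfFinitePresentation f]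

/-- The set of points at which the fibre is not smooth. -/
def sing : Set X := (f.smoothLocus : Set X)ᶜ

theorem isClosed_sing : IsClosed (sing f) := f.smoothLocus.2.isClosed_compl

/-- Geometric `(R_n)` of the fibre at `x`, by the dimensions of the singular generizations. -/
def RkAt (n : ℕ) (x : X) : Prop :=
  ∀ t ∈ sing f, Gen f x t → ∃ t', Gen f t t' ∧ FibDim.rd f t + n < FibDim.rd f t'

theorem dim_stalk_fiber_le_iff (y : Y) (w : ↥(f.fiber y)) (n : ℕ) :
    ringKrullDim ((f.fiber y).presheaf.stalk w) ≤ n ↔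
      ∀ t', Gen f (f.fiberι y w) t' → FibDim.rd f t' ≤ FibDim.rd f (f.fiberι y w) + n := by
  obtain ⟨b, hb, ⟨η, hη, hηd⟩, hle⟩ := VarDim.exists_deg_add_stalk (k := Y.residueField y) (f.fiberToSpecResidueField y) w
  rw [hb]
  simp only [FibDim.deg_fiber] at hηd hle
  constructor
  · intro h t' hg
    obtain ⟨z, rfl⟩ := exists_fiberι_eq f hg
    have h1 := hle z ((gen_fiberι_iff f y w z).1 hg)
    have h2 : b ≤ n := by exact_mod_cast h
    omega
  · intro h
    have h1 := h _ ((gen_fiberι_iff f y w η).2 hη)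
    exact_mod_cast (show b ≤ n by omega)

theorem geomRk_fiber_iff [Flat f] (n : ℕ) (y : Y) (w : ↥(f.fiber y)) :
    (∀ (K : Type u) [Field K] [Algebra (IsLocalRing.ResidueField (Y.presheaf.stalk y)) K],
        Module.Finite (IsLocalRing.ResidueField (Y.presheaf.stalk y)) K →
        ∀ x' : ↥(FBase.bc (f.fiberToSpecResidueField y) K),
          (FBase.bcπ (f.fiberToSpecResidueField y) K).base x' = w →
          LocCoh.HasRk n ((FBase.bc (f.fiberToSpecResidueField y) K).presheaf.stalk x')) ↔
      RkAt f n (f.fiberι y w) := by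
  haveI := FibreLoc5.lfp_fibre f y
  have hsm : ∀ z : ↥(f.fiber y), z ∈ (f.fiberToSpecResidueField y).smoothLocus ↔ f.fiberι y z ∈ f.smoothLocus := by
    intro z
    have hz := apply_fiberι f y z
    generalize hx : f.fiberι y z = x at hz
    subst hz
    obtain rfl : z = f.asFiber x := (f.fiberι (f x)).isEmbedding.injective (hx.trans (f.fiberι_asFiber x).symm)
    haveI := FibreLoc5.lfp_fibre f (f x)
    rw [Groth.Agent.S2156.result f x]
    exact (and_iff_right (Flat.stalkMap f x)).symm
  refine (geomRk_iff (k := (IsLocalRing.ResidueField (Y.presheaf.stalk y) : Type u)) (f.fiberToSpecResidueField y) n w).trans ?_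
  constructor
  · intro h t hts hg
    obtain ⟨z, rfl⟩ := exists_fiberι_eq f hg
    by_contra hcon
    push Not at hcon
    exact hts ((hsm z).1 (h z ((gen_fiberι_iff f y w z).1 hg) ((dim_stalk_fiber_le_iff f y z n).2 hcon)))
  · intro h z hz hdim
    by_contra hns
    obtain ⟨t', hg', hlt⟩ := h (f.fiberι y z) (fun hs => hns ((hsm z).2 hs)) ((gen_fiberι_iff f y w z).2 hz)
    have := (dim_stalk_fiber_le_iff f y z n).1 hdim t' hg'
    omega

end Relative

end Groth.Agent.AssDimLoci
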