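import Groth.Agent.S6285
import Groth.Agent.QCoh.FlatOver
import Groth.Agent.QCoh.FT
import Groth.Agent.QCoh.Support
import Mathlib.RingTheory.Spectrum.Prime.Chevalley
import Mathlib.RingTheory.Spectrum.Prime.ConstructibleSet

/-!
# The support of a flat module of finite presentation maps openly to the base
-/

set_option autoImplicit false
set_option linter.style.haveILetI false
set_option linter.deprecated false

universe u

open AlgebraicGeometry CategoryTheory TensorProduct

namespace Groth.Agent.AssDimLoci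

section Algebra

variable {A B : Type u} [CommRing A] [CommRing B] [Algebra A B] (M : Type u) [AddCommGroup M] [Module B M]
  [Module A M] [IsScalarTower A B M] [Module.Flat A M] [Module.Finite B M]

/-- Going down inside the support of a flat module. -/
theorem exists_support_below {q : PrimeSpectrum B} (hq : q ∈ Module.support B M) (p : PrimeSpectrum A)
    (hp : p ≤ PrimeSpectrum.comap (algebraMap A B) q) :
    ∃ Q ∈ Module.support B M, Q ≤ q ∧ PrimeSpectrum.comap (algebraMap A B) Q = p := by
  let L := Localization.AtPrime q.asIdeal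
  let N := LocalizedModule q.asIdeal.primeCompl M
  haveI : Module.Flat A N := QCoh.flat_base_of_isLocalizedModule q.asIdeal.primeCompl
    (LocalizedModule.mkLinearMap q.asIdeal.primeCompl M)
  haveI : Module.Finite L N := Module.Finite.of_isLocalizedModule q.asIdeal.primeCompl
    (LocalizedModule.mkLinearMap q.asIdeal.primeCompl M)
  haveI : Nontrivial N := hq
  let P : Ideal B := p.asIdeal.map (algebraMap A B)
  let I : Ideal L := P.map (algebraMap B L)
  have hI : I ≤ IsLocalRing.maximalIdeal L := by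
    refine Ideal.map_le_iff_le_comap.2 (Ideal.map_le_iff_le_comap.2 fun a ha => ?_)
    show algebraMap B L (algebraMap A B a) ∈ IsLocalRing.maximalIdeal L
    exact (IsLocalization.AtPrime.to_map_mem_maximal_iff L q.asIdeal _).2 (hp ha)
  have hne : (I • ⊤ : Submodule L N) ≠ ⊤ := fun h => by
    refine (top_ne_bot : (⊤ : Submodule L N) ≠ ⊥) ?_
    exact Submodule.eq_bot_of_le_smul_of_le_jacobson_bot I _ Module.Finite.fg_top h.ge
      (hI.trans (IsLocalRing.maximalIdeal_le_jacobson _))
  obtain ⟨n, hn⟩ : ∃ n : N, n ∉ (I • ⊤ : Submodule L N) := by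
    by_contra hcon
    push Not at hcon
    exact hne (eq_top_iff.2 fun x _ => hcon x)
  have hIA : (I • ⊤ : Submodule L N).restrictScalars A = (p.asIdeal • ⊤ : Submodule A N) := by
    have e : I = p.asIdeal.map (algebraMap A L) := by
      rw [IsScalarTower.algebraMap_eq A B L]
      exact Ideal.map_map _ _
    rw [e, Ideal.smul_restrictScalars, Submodule.restrictScalars_top]
  -- elements outside `p` are regular on `N/pN`
  have hreg : ∀ s ∉ p.asIdeal, ∀ z : N, s • z ∈ (p.asIdeal • ⊤ : Submodule A N) →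
      z ∈ (p.asIdeal • ⊤ : Submodule A N) := by
    intro s hs z hz
    have hinj : Function.Injective (LinearMap.lsmul A (A ⧸ p.asIdeal) s) := by
      intro a b hab
      obtain ⟨a, rfl⟩ := Ideal.Quotient.mk_surjective a
      obtain ⟨b, rfl⟩ := Ideal.Quotient.mk_surjective b
      have h : s * a - s * b ∈ p.asIdeal := Ideal.Quotient.eq.1 hab
      rw [← mul_sub] at h
      exact Ideal.Quotient.eq.2 ((p.2.mem_or_mem h).resolve_left hs)
    have h2 := Module.Flat.lTensor_preserves_injective_linearMap (M := N) _ hinj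
    let e := TensorProduct.tensorQuotEquivQuotSMul N p.asIdeal
    have h3 : ∀ w, e ((LinearMap.lsmul A (A ⧸ p.asIdeal) s).lTensor N w) = s • e w := by
      intro w
      rw [← map_smul]
      congr 1
      induction w using TensorProduct.induction_on with
      | zero => simp
      | tmul x y => simp [TensorProduct.tmul_smul, TensorProduct.smul_tmul']
      | add x y hx hy => simp [map_add, hx, hy]
    refine (Submodule.Quotient.mk_eq_zero _).1 ?_
    obtain ⟨w, hw⟩ := e.surjective (Submodule.Quotient.mk z)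
    have h4 : w = 0 := h2 (e.injective (by
      rw [h3, hw, map_zero, map_zero, ← Submodule.Quotient.mk_smul, (Submodule.Quotient.mk_eq_zero _).2 hz]))
    rw [← hw, h4, map_zero]
  let J : Ideal B := ((I • ⊤ : Submodule L N).restrictScalars B).colon {n}
  let T : Submonoid B := q.asIdeal.primeCompl ⊔ Algebra.algebraMapSubmonoid B p.asIdeal.primeCompl
  have hdisj : Disjoint (J : Set B) (T : Set B) := by
    refine Set.disjoint_right.2 fun c hc hcJ => ?_
    obtain ⟨b, hb, _, ⟨s, hs, rfl⟩, rfl⟩ := Submonoid.mem_sup.1 hc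
    have h1 : (b * algebraMap A B s) • n ∈ (I • ⊤ : Submodule L N) := Submodule.mem_colon_singleton.1 hcJ
    rw [mul_smul, algebraMap_smul, ← algebraMap_smul L b] at h1
    have hu : IsUnit (algebraMap B L b) := IsLocalization.map_units L (⟨b, hb⟩ : q.asIdeal.primeCompl)
    exact hn (hIA.ge (hreg s hs n (hIA.le ((Submodule.smul_mem_iff_of_isUnit _ hu).1 h1))))
  obtain ⟨Q, hQ, hJQ, hQdisj⟩ := Ideal.exists_le_prime_disjoint J _ hdisj
  have hPJ : P ≤ J := fun b hb => Submodule.mem_colon_singleton.2 (by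
    show b • n ∈ (I • ⊤ : Submodule L N)
    rw [← algebraMap_smul L b n]
    exact Submodule.smul_mem_smul (Ideal.mem_map_of_mem _ hb) trivial)
  have hQq : Q ≤ q.asIdeal := fun b hb => by_contra fun hbq =>
    Set.disjoint_left.1 hQdisj hb (Submonoid.mem_sup_left (show b ∈ q.asIdeal.primeCompl from hbq))
  refine ⟨⟨Q, hQ⟩, ?_, hQq, ?_⟩
  · refine Module.mem_support_iff_of_finite.2 fun b hb => hJQ (Submodule.mem_colon_singleton.2 ?_)
    show b • n ∈ (I • ⊤ : Submodule L N)
    have : b • n = 0 := by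
      induction n using LocalizedModule.induction_on with
      | h m s => rw [LocalizedModule.smul'_mk, Module.mem_annihilator.1 hb m, LocalizedModule.zero_mk]
    rw [this]
    exact zero_mem _
  · refine PrimeSpectrum.ext (le_antisymm (fun a ha => ?_) fun a ha => hJQ (hPJ (Ideal.mem_map_of_mem _ ha)))
    by_contra hap
    exact Set.disjoint_left.1 hQdisj ha (Submonoid.mem_sup_right ⟨a, hap, rfl⟩)

end Algebra

/-- The support of a flat module of finite presentation maps openly to the base. -/
theorem isOpen_comap_image_support {A B : Type u} [CommRing A] [CommRing B] [Algebra A B]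
    [Algebra.FinitePresentation A B] (M : Type u) [AddCommGroup M] [Module B M] [Module A M]
    [IsScalarTower A B M] [Module.Flat A M] [Module.FinitePresentation B M] (g : B) :
    IsOpen (PrimeSpectrum.comap (algebraMap A B) ''
      ((PrimeSpectrum.basicOpen g : Set (PrimeSpectrum B)) ∩ Module.support B M)) := by
  refine PrimeSpectrum.isOpen_of_stableUnderGeneralization_of_isConstructible ?_ ?_
  · rintro p p' hpp' ⟨q, ⟨hqg, hq⟩, rfl⟩
    obtain ⟨Q, hQ, hQq, hQp⟩ := exists_support_below M hq p' ((PrimeSpectrum.le_iff_specializes _ _).2 hpp')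
    exact ⟨Q, ⟨fun h => hqg (hQq h), hQ⟩, hQp⟩
  · refine PrimeSpectrum.isConstructible_comap_image (RingHom.finitePresentation_algebraMap.mpr ‹_›) ?_
    obtain ⟨hc, hk⟩ := Groth.Agent.S6285.result B M
    have h1 : Topology.IsConstructible (Module.support B M)ᶜ := hk.isConstructible hc.isOpen_compl
    have h2 : Topology.IsConstructible (PrimeSpectrum.basicOpen g : Set (PrimeSpectrum B)) :=
      PrimeSpectrum.isConstructible_basicOpen
    exact h2.inter (by simpa using h1.compl)

/-- Scheme version. -/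
theorem isOpen_image_support {X Y : Scheme.{u}} (f : X ⟶ Y) [LocallyOfFinitePresentation f]
    (F : X.Modules) (hF : CohB1.IsFP F) (hflat : FlatMod.IsFlatOver f F) (O : Set X) (hO : IsOpen O) :
    IsOpen (f '' (O ∩ CohB1.support F)) := by
  have hM := QCoh.isQCoh_of_isFP hF
  refine isOpen_iff_forall_mem_open.2 ?_
  rintro _ ⟨x, ⟨hxO, hxS⟩, rfl⟩
  obtain ⟨V, hV, hxV, -⟩ := exists_isAffineOpen_mem_and_subset (U := (⊤ : Y.Opens)) (x := f x) trivial
  obtain ⟨U, hU, hxU, hUW⟩ := exists_isAffineOpen_mem_and_subset (U := (⟨O, hO⟩ : X.Opens) ⊓ f ⁻¹ᵁ V) (x := x) ⟨hxO, hxV⟩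
  have hUV : U ≤ f ⁻¹ᵁ V := fun z hz => (hUW hz).2
  letI : Algebra Γ(Y, V) Γ(X, U) := (f.appLE V U hUV).hom.toAlgebra
  haveI : Algebra.FinitePresentation Γ(Y, V) Γ(X, U) := f.finitePresentation_appLE hV hU hUV
  letI : Module Γ(Y, V) Γ(F, U) := Module.compHom _ (f.appLE V U hUV).hom
  haveI : IsScalarTower Γ(Y, V) Γ(X, U) Γ(F, U) := IsScalarTower.of_algebraMap_smul fun _ _ => rfl
  haveI := QCoh.finitePresentation_of_isFP hF hU
  haveI : Module.Flat Γ(Y, V) Γ(F, U) := (QCoh.flat_appLE_iff f hM hU hV hUV).2 fun z _ => hflat z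
  have h := isOpen_comap_image_support (A := Γ(Y, V)) Γ(F, U) (1 : Γ(X, U))
  rw [PrimeSpectrum.basicOpen_one] at h
  have hcomm : ∀ q : PrimeSpectrum Γ(X, U), f (hU.fromSpec q) =
      hV.fromSpec (PrimeSpectrum.comap (algebraMap Γ(Y, V) Γ(X, U)) q) := fun q => by
    show (hU.fromSpec ≫ f) q = _
    rw [← hV.SpecMap_appLE_fromSpec f hU hUV]
    rfl
  have hsupp : ∀ q : PrimeSpectrum Γ(X, U), hU.fromSpec q ∈ CohB1.support F ↔
      q ∈ Module.support Γ(X, U) Γ(F, U) := fun q => by
    have hz : hU.fromSpec q ∈ U := (Set.ext_iff.1 hU.range_fromSpec _).1 (Set.mem_range_self q)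
    rw [← QCoh.mem_moduleSupport_iff hM hU hz,
      show hU.primeIdealOf ⟨hU.fromSpec q, hz⟩ = q from
        hU.fromSpec.isOpenEmbedding.injective (hU.fromSpec_primeIdealOf ⟨_, hz⟩)]
  refine ⟨hV.fromSpec '' _, ?_, hV.fromSpec.isOpenEmbedding.isOpenMap _ h, ?_⟩
  · rintro _ ⟨_, ⟨q, ⟨-, hq⟩, rfl⟩, rfl⟩
    exact ⟨hU.fromSpec q, ⟨(hUW ((Set.ext_iff.1 hU.range_fromSpec _).1 (Set.mem_range_self q))).1,
      (hsupp q).2 hq⟩, hcomm q⟩
  · refine ⟨_, ⟨hU.primeIdealOf ⟨x, hxU⟩, ⟨trivial, ?_⟩, rfl⟩, ?_⟩
    · exact (hsupp _).1 (by rw [hU.fromSpec_primeIdealOf]; exact hxS)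
    · rw [← hcomm, hU.fromSpec_primeIdealOf]

end Groth.Agent.AssDimLoci
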