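import Groth.Agent.AssDimLoci.Dict
import Groth.Agent.AssDimLoci.SuppOpen

/-!
# The openness theorems for the dimensions of associated cycles of the fibres (EGA IV 12.1, 12.2)
-/

set_option autoImplicit false
set_option linter.style.haveILetI false
set_option linter.unusedSectionVars false
set_option linter.deprecated false
set_option backward.isDefEq.respectTransparency false
set_option backward.isDefEq.respectTransparency.types false

universe u

open AlgebraicGeometry CategoryTheory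

namespace Groth.Agent.AssDimLoci

variable {X Y : Scheme.{u}} (f : X ⟶ Y) [LocallyOfFinitePresentation f] (F : X.Modules) (hF : CohB1.IsFP F)
  (hflat : FlatMod.IsFlatOver f F)

/-- The condition that the associated cycles through `x` have dimensions in `Φ`. -/
def DimsAt (Φ : Set ℕ) (x : X) : Prop := ∀ t, fdepth f F t = 0 → Gen f x t → FibDim.rd f t ∈ Φ

/-- The condition that no embedded associated cycle passes through `x`. -/
def NoEmbAt (x : X) : Prop :=
  ∀ t, fdepth f F t = 0 → Gen f x t → ∀ t', fdepth f F t' = 0 → Gen f t t' → t' = t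

/-- The condition `(S_k)` of the fibre module at `x`. -/
def SkAt (k : ℕ) (x : X) : Prop :=
  ∀ t ∈ CohB1.support F, Gen f x t → ∀ n : ℕ, n < k → fdepth f F t ≤ n →
    ∀ t' ∈ CohB1.support F, Gen f t t' → FibDim.rd f t' ≤ FibDim.rd f t + n

/-- All associated cycles through `x` have the same dimension. -/
def EquiAt (x : X) : Prop :=
  ∀ t t', fdepth f F t = 0 → fdepth f F t' = 0 → Gen f x t → Gen f x t' → FibDim.rd f t = FibDim.rd f t'

include hF hflat

theorem equidim_sk_iff {k : ℕ} (hk : 1 ≤ k) (y : Y) (w : ↥(f.fiber y)) :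
    EGA4.IsEquidimModule ((f.fiber y).presheaf.stalk w) ((Fib f F y).presheaf.stalk w) ∧
        LocCoh.HasSk k ((f.fiber y).presheaf.stalk w) ((Fib f F y).presheaf.stalk w) ↔
      EquiAt f F (f.fiberι y w) ∧ SkAt f F k (f.fiberι y w) := by
  rw [isEquidimModule_iff f F hF, hasSk_iff f F hF]
  refine and_congr_left fun hsk => ?_
  have D := depthData f F hF hflat
  have hmax : ∀ t, fdepth f F t = 0 → Gen f (f.fiberι y w) t → ∀ s ∈ CohB1.support F, Gen f t s → s = t := by
    intro t ht hg s hs hgs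
    by_contra hne
    have h1 := FibDim.rd_lt f hgs.1 hne hgs.2
    have h2 := hsk t (D.mem ht) hg 0 (by omega) (by rw [ht]; exact le_rfl) s hs hgs
    omega
  exact ⟨fun h t t' ht ht' hg hg' => h t t' (D.mem ht) (hmax t ht hg) (D.mem ht') (hmax t' ht' hg') hg hg',
    fun h t t' htS htm ht'S ht'm hg hg' => h t t' (D.maximal t htS htm) (D.maximal t' ht'S ht'm) hg hg'⟩

theorem noEmbedded_iff (y : Y) :
    AssSch.NoEmbedded (Fib f F y) ↔ ∀ x, f x = y → NoEmbAt f F x := by
  constructor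
  · intro h x hx t ht hg t' ht' hg'
    obtain ⟨z, rfl⟩ : t ∈ Set.range (f.fiberι y) := by rw [Scheme.Hom.range_fiberι]; exact hg.2.trans hx
    obtain ⟨z', rfl⟩ := exists_fiberι_eq f hg'
    rw [h z ((mem_ass_iff f F hF y z).2 ht) z' ((mem_ass_iff f F hF y z').2 ht') ((gen_fiberι_iff f y z z').1 hg')]
  · intro h z hz z' hz' hsp
    exact ((f.fiberι y).isEmbedding.injective (h _ (apply_fiberι f y z) _ ((mem_ass_iff f F hF y z).1 hz) (Gen.refl f _)
      _ ((mem_ass_iff f F hF y z').1 hz') ((gen_fiberι_iff f y z z').2 hsp))).symm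

theorem isOpen_assDims_through (Φ : Finset ℕ) :
    IsOpen {x : X | ∀ z ∈ AssSch.Ass (Fib f F (f x)), f.asFiber x ∈ closure {z} →
      ∃ n ∈ Φ, topologicalKrullDim ↥(closure ({z} : Set ↥(f.fiber (f x)))) = (n : WithBot ℕ∞)} := by
  convert (depthData f F hF hflat).isOpen_dims (Φ : Set ℕ) using 1
  ext x
  have h := forall_ass_gen_iff f F hF (f x) (f.asFiber x) (fun t => FibDim.rd f t ∈ (Φ : Set ℕ))
  rw [f.fiberι_asFiber] at h
  refine Iff.trans ?_ h
  refine forall₂_congr fun z _ => ?_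
  rw [← specializes_iff_mem_closure, dims_iff f F hF]

theorem isOpen_noEmbedded_through :
    IsOpen {x : X | ∀ z ∈ AssSch.Ass (Fib f F (f x)), f.asFiber x ∈ closure {z} →
      ∀ z' ∈ AssSch.Ass (Fib f F (f x)), z ∈ closure {z'} → z' = z} := by
  convert (depthData f F hF hflat).isOpen_noEmb using 1
  ext x
  have h := forall_ass_gen_iff f F hF (f x) (f.asFiber x)
    (fun t => ∀ t', fdepth f F t' = 0 → Gen f t t' → t' = t)
  rw [f.fiberι_asFiber] at h
  refine Iff.trans ?_ h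
  refine forall₂_congr fun z _ => ?_
  rw [← specializes_iff_mem_closure]
  refine imp_congr_right fun _ => ?_
  constructor
  · intro hz t' ht' hg
    obtain ⟨z', rfl⟩ := exists_fiberι_eq f hg
    rw [hz z' ((mem_ass_iff f F hF _ z').2 ht') (specializes_iff_mem_closure.1 ((gen_fiberι_iff f _ z z').1 hg))]
  · intro hz z' hz' hsp
    exact (f.fiberι (f x)).isEmbedding.injective
      (hz _ ((mem_ass_iff f F hF _ z').1 hz') ((gen_fiberι_iff f _ z z').2 (specializes_iff_mem_closure.2 hsp)))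

theorem isOpen_equidim_sk {k : ℕ} (hk : 1 ≤ k) :
    IsOpen {x : X | EGA4.IsEquidimModule ((f.fiber (f x)).presheaf.stalk (f.asFiber x)) ((Fib f F (f x)).presheaf.stalk (f.asFiber x)) ∧
      LocCoh.HasSk k ((f.fiber (f x)).presheaf.stalk (f.asFiber x)) ((Fib f F (f x)).presheaf.stalk (f.asFiber x))} := by
  convert (depthData f F hF hflat).isOpen_equidim.inter ((depthData f F hF hflat).isOpen_sk k) using 1
  ext x
  refine (equidim_sk_iff f F hF hflat hk (f x) (f.asFiber x)).trans ?_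
  rw [f.fiberι_asFiber]
  rfl

variable [IsProper f]

theorem isOpen_base_equidim_sk {k : ℕ} (hk : 1 ≤ k) :
    IsOpen {y : Y | ∀ w : ↥(f.fiber y), EGA4.IsEquidimModule ((f.fiber y).presheaf.stalk w) ((Fib f F y).presheaf.stalk w) ∧
      LocCoh.HasSk k ((f.fiber y).presheaf.stalk w) ((Fib f F y).presheaf.stalk w)} := by
  convert isOpen_base (f := f) f.isClosedMap
    ((depthData f F hF hflat).isOpen_equidim.inter ((depthData f F hF hflat).isOpen_sk k)) using 1
  ext y
  simp only [Set.mem_ofPred_eq, equidim_sk_iff f F hF hflat hk]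
  refine ⟨fun h x hx => ?_, fun h w => h _ (apply_fiberι f y w)⟩
  obtain ⟨w, rfl⟩ : x ∈ Set.range (f.fiberι y) := by rw [Scheme.Hom.range_fiberι]; exact hx
  exact h w

theorem assDims_iff (y : Y) (Φ : Finset ℕ) :
    (∀ z ∈ AssSch.Ass (Fib f F y), ∃ n ∈ Φ, topologicalKrullDim ↥(closure ({z} : Set ↥(f.fiber y))) = (n : WithBot ℕ∞)) ↔
      ∀ x, f x = y → DimsAt f F (Φ : Set ℕ) x := by
  constructor
  · intro h x hx t ht hg
    obtain ⟨z, rfl⟩ : t ∈ Set.range (f.fiberι y) := by rw [Scheme.Hom.range_fiberι]; exact hg.2.trans hx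
    exact (dims_iff f F hF y z Φ).1 (h z ((mem_ass_iff f F hF y z).2 ht))
  · intro h z hz
    exact (dims_iff f F hF y z Φ).2 (h _ (apply_fiberι f y z) _ ((mem_ass_iff f F hF y z).1 hz) (Gen.refl f _))

theorem isOpen_base_assDims (Φ : Finset ℕ) :
    IsOpen {y : Y | ∀ z ∈ AssSch.Ass (Fib f F y), ∃ n ∈ Φ, topologicalKrullDim ↥(closure ({z} : Set ↥(f.fiber y))) = (n : WithBot ℕ∞)} := by
  convert isOpen_base (f := f) f.isClosedMap ((depthData f F hF hflat).isOpen_dims (Φ : Set ℕ)) using 1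
  ext y
  exact assDims_iff f F hF hflat y Φ

/-- The dimensions of the components of the support of the fibre module. -/
def compDims (y : Y) : Set ℕ :=
  {n | ∃ t ∈ CohB1.support F, f t = y ∧ FibDim.rd f t = n ∧ ∀ t' ∈ CohB1.support F, Gen f t t' → t' = t}

theorem exists_component_nat_iff (y : Y) (n : ℕ) :
    (∃ Z ∈ irreducibleComponents ↥{z : ↥(f.fiber y) | Nontrivial ((Fib f F y).presheaf.stalk z)},
        topologicalKrullDim ↥Z = (n : WithBot ℕ∞)) ↔ n ∈ compDims f F y := by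
  rw [exists_component_iff f F hF]
  exact ⟨fun ⟨t, h1, h2, h3, h4⟩ => ⟨t, h1, h2, by exact_mod_cast h4, h3⟩,
    fun ⟨t, h1, h2, h3, h4⟩ => ⟨t, h1, h2, h4, by exact_mod_cast h3⟩⟩

theorem isOpen_mem_compDims (n : ℕ) : IsOpen {y : Y | n ∈ compDims f F y} :=
  (depthData f F hF hflat).isOpen_component (fun O hO => isOpen_image_support f F hF hflat O hO) n

theorem isOpen_components_supset (Φ : Finset ℕ) :
    IsOpen {y : Y | ∀ n ∈ Φ, ∃ Z ∈ irreducibleComponents ↥{z : ↥(f.fiber y) | Nontrivial ((Fib f F y).presheaf.stalk z)},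
      topologicalKrullDim ↥Z = (n : WithBot ℕ∞)} := by
  convert isOpen_biInter_finset (s := Φ) fun n _ => isOpen_mem_compDims f F hF hflat n using 1
  ext y
  simp only [Set.mem_ofPred_eq, Set.mem_iInter, exists_component_nat_iff f F hF hflat]

theorem isOpen_noEmbedded_components_eq (Φ : Finset ℕ) :
    IsOpen {y : Y | AssSch.NoEmbedded (Fib f F y) ∧
      (fun Z : Set ↥{z : ↥(f.fiber y) | Nontrivial ((Fib f F y).presheaf.stalk z)} => topologicalKrullDim ↥Z) ''
          irreducibleComponents ↥{z : ↥(f.fiber y) | Nontrivial ((Fib f F y).presheaf.stalk z)} =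
        (fun n : ℕ => (n : WithBot ℕ∞)) '' (Φ : Set ℕ)} := by
  have D := depthData f F hF hflat
  convert ((isOpen_base (f := f) f.isClosedMap D.isOpen_noEmb).inter
    (isOpen_base (f := f) f.isClosedMap (D.isOpen_dims (Φ : Set ℕ)))).inter
      (isOpen_biInter_finset (s := Φ) fun n _ => isOpen_mem_compDims f F hF hflat n) using 1
  ext y
  simp only [Set.mem_ofPred_eq, Set.mem_inter_iff, Set.mem_iInter, noEmbedded_iff f F hF hflat, and_assoc]
  refine and_congr_right fun hne => ⟨fun h => ⟨fun x hx t ht hg => ?_, fun n hn => ?_⟩, fun ⟨h1, h2⟩ => ?_⟩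
  · -- an associated point is maximal in the support
    obtain ⟨t', ht'S, hg', hmax, -⟩ := exists_maximal f (D.mem ht)
    have he : t' = t := hne x hx t ht hg t' (D.maximal t' ht'S hmax) hg'
    subst he
    obtain ⟨m, hm, hmt⟩ : ((FibDim.rd f t' : ℕ∞) : WithBot ℕ∞) ∈ (fun n : ℕ => (n : WithBot ℕ∞)) '' (Φ : Set ℕ) := by
      rw [← h]
      obtain ⟨Z, hZ, hZd⟩ := (exists_component_iff f F hF y _).2 ⟨t', ht'S, hg.2.trans hx, hmax, rfl⟩
      exact ⟨Z, hZ, hZd⟩
    have hmt' : m = FibDim.rd f t' := by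
      change (m : WithBot ℕ∞) = _ at hmt
      exact_mod_cast hmt
    exact hmt' ▸ hm
  · obtain ⟨Z, hZ, hZd⟩ : (n : WithBot ℕ∞) ∈ _ '' _ := h.ge ⟨n, hn, rfl⟩
    exact (exists_component_nat_iff f F hF hflat y n).1 ⟨Z, hZ, hZd⟩
  · refine Set.Subset.antisymm ?_ ?_
    · rintro _ ⟨Z, hZ, rfl⟩
      obtain ⟨t, htS, hty, hmax, he⟩ := (exists_component_iff f F hF y (topologicalKrullDim ↥Z)).1 ⟨Z, hZ, rfl⟩
      exact ⟨FibDim.rd f t, h1 t hty t (D.maximal t htS hmax) (Gen.refl f t), he⟩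
    · rintro _ ⟨n, hn, rfl⟩
      obtain ⟨Z, hZ, hZd⟩ := (exists_component_nat_iff f F hF hflat y n).2 (h2 n hn)
      exact ⟨Z, hZ, hZd⟩

theorem isLocallyConstant_supportDim :
    IsLocallyConstant (fun y : Y => topologicalKrullDim ↥{z : ↥(f.fiber y) | Nontrivial ((Fib f F y).presheaf.stalk z)}) := by
  have D := depthData f F hF hflat
  have hdim : ∀ y : Y, topologicalKrullDim ↥{z : ↥(f.fiber y) | Nontrivial ((Fib f F y).presheaf.stalk z)} =
      ⨆ t : {t : X // t ∈ CohB1.support F ∧ f t = y}, ((FibDim.rd f t.1 : ℕ∞) : WithBot ℕ∞) := by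
    intro y
    have hC : {z : ↥(f.fiber y) | Nontrivial ((Fib f F y).presheaf.stalk z)} = f.fiberι y ⁻¹' CohB1.support F := by
      rw [← support_fib f F hF y]
      ext z
      exact not_subsingleton_iff_nontrivial.symm
    rw [hC, (FibDim.pieceHomeo f y (CohB1.support F)).isHomeomorph.topologicalKrullDim_eq,
      FibDim.dim_closed_inter_eq_iSup f y D.closed]
    rfl
  refine (IsLocallyConstant.iff_exists_open _).2 fun y => ?_
  by_cases hne : ∃ t ∈ CohB1.support F, f t = y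
  swap
  · refine ⟨(f '' CohB1.support F)ᶜ, (f.isClosedMap _ D.closed).isOpen_compl,
      fun ⟨t, ht, he⟩ => hne ⟨t, ht, he⟩, fun y' hy' => ?_⟩
    show topologicalKrullDim _ = topologicalKrullDim _
    rw [hdim, hdim]
    haveI : IsEmpty {t : X // t ∈ CohB1.support F ∧ f t = y} := ⟨fun t => hne ⟨t.1, t.2⟩⟩
    haveI : IsEmpty {t : X // t ∈ CohB1.support F ∧ f t = y'} := ⟨fun t => hy' ⟨t.1, t.2⟩⟩
    rw [iSup_of_empty, iSup_of_empty]
  -- the fibre is quasi-compact, so the dimensions are bounded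
  have hK : IsCompact (f ⁻¹' {y}) := by
    rw [← Scheme.Hom.range_fiberι]
    exact isCompact_range (f.fiberι y).continuous
  choose U N hU hxU hN using fun x : X => exists_bound f x
  obtain ⟨s, hs⟩ := hK.elim_finite_subcover U hU fun x _ => Set.mem_iUnion.2 ⟨x, hxU x⟩
  let S : Set ℕ := {n | ∃ t ∈ CohB1.support F, f t = y ∧ FibDim.rd f t = n}
  have hbd : BddAbove S := by
    refine ⟨∑ x ∈ s, N x, ?_⟩
    rintro _ ⟨t, -, hty, rfl⟩
    obtain ⟨x, hxs, htx⟩ := Set.mem_iUnion₂.1 (hs hty)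
    exact (hN x t htx).trans (Finset.single_le_sum (fun i _ => Nat.zero_le (N i)) hxs)
  obtain ⟨t₀, ht₀S, ht₀y⟩ := hne
  obtain ⟨t, htS, hty, htn⟩ := Nat.sSup_mem (s := S) ⟨_, t₀, ht₀S, ht₀y, rfl⟩ hbd
  have hle : ∀ t' ∈ CohB1.support F, f t' = y → FibDim.rd f t' ≤ sSup S :=
    fun t' h1 h2 => le_csSup hbd ⟨t', h1, h2, rfl⟩
  have hmem : sSup S ∈ compDims f F y := by
    refine ⟨t, htS, hty, htn, fun t' ht' hg => ?_⟩
    by_contra hne'
    have h1 := FibDim.rd_lt f hg.1 hne' hg.2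
    have h2 := hle t' ht' (hg.2.trans hty)
    omega
  refine ⟨{y | ∀ t ∈ CohB1.support F, f t = y → FibDim.rd f t ≤ sSup S} ∩ {y | sSup S ∈ compDims f F y},
    (D.isOpen_base_dim_le f.isClosedMap _).inter (isOpen_mem_compDims f F hF hflat _), ⟨hle, hmem⟩, ?_⟩
  rintro y' ⟨h1, u, huS, huy, hun, -⟩
  have hval : ∀ (z : Y), (∀ t ∈ CohB1.support F, f t = z → FibDim.rd f t ≤ sSup S) →
      (∀ v ∈ CohB1.support F, f v = z → FibDim.rd f v = sSup S →
        (⨆ t : {t : X // t ∈ CohB1.support F ∧ f t = z}, ((FibDim.rd f t.1 : ℕ∞) : WithBot ℕ∞)) = ((sSup S : ℕ) : ℕ∞)) := by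
    intro z hz v hvS hvz hv
    refine le_antisymm (iSup_le fun t => by exact_mod_cast hz t.1 t.2.1 t.2.2) ?_
    rw [← hv]
    exact le_iSup (fun t : {t : X // t ∈ CohB1.support F ∧ f t = z} => ((FibDim.rd f t.1 : ℕ∞) : WithBot ℕ∞)) ⟨v, hvS, hvz⟩
  show topologicalKrullDim _ = topologicalKrullDim _
  rw [hdim, hdim, hval y' h1 u huS huy hun, hval y hle t htS hty htn]

end Groth.Agent.AssDimLoci
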