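import Groth.Agent.AssDimLoci.RkLoci
import Groth.Agent.Codepth5.Field
import Groth.Agent.FlatLoc6.SerreNormal
import Groth.Agent.AlgSpLib.FlatFibNoeth
import Groth.Agent.GeomRedFlat5.Nhd
import Groth.Agent.ConsPropLib.Fibre

/-!
# Openness of the geometric normality loci of the fibres
-/

set_option autoImplicit false
set_option linter.style.haveILetI false
set_option linter.unusedSectionVars false
set_option linter.deprecated false
set_option backward.isDefEq.respectTransparency false
set_option backward.isDefEq.respectTransparency.types false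

universe u

open AlgebraicGeometry CategoryTheory IsLocalRing Limits

namespace Groth.Agent.AssDimLoci

/-- Serre's criterion for a local ring. -/
theorem normal_local_iff (R : Type u) [CommRing R] [IsNoetherianRing R] [IsLocalRing R] :
    (IsDomain R ∧ IsIntegrallyClosed R) ↔ (LocCoh.HasRk 1 R ∧ LocCoh.HasSk 2 R R) := by
  refine ⟨fun ⟨h1, h2⟩ => FlatLoc6.R1_S2_of_normal fun p _ => ?_, fun h => FlatLoc6.normal_of_R1_S2 h.1 h.2⟩
  haveI := h1
  haveI := h2
  have hp : p.primeCompl ≤ nonZeroDivisors R := fun z hz =>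
    mem_nonZeroDivisors_of_ne_zero fun h0 => hz (h0 ▸ p.zero_mem)
  exact ⟨IsLocalization.isDomain_localization hp, isIntegrallyClosed_of_isLocalization (Localization.AtPrime p) p.primeCompl hp⟩

section Field

variable {k : Type u} [Field k] {Z : Scheme.{u}} (q : Z ⟶ Spec (CommRingCat.of k)) [LocallyOfFiniteType q]

theorem quot_fibIdeal_equiv {W : Scheme.{u}} {K : Type u} [Field K] (g : W ⟶ Spec (CommRingCat.of K)) (x : W) :
    Nonempty ((W.presheaf.stalk x ⧸ Codepth5.fibIdeal g x) ≃+* W.presheaf.stalk x) := by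
  have h : Codepth5.fibIdeal g x = ⊥ := by
    rw [Codepth5.fibIdeal, AlgSpLib.maximalIdeal_stalk_spec_field K (g x), Ideal.map_bot]
  exact ⟨(Ideal.quotEquivOfEq h).trans (RingEquiv.quotientBot _)⟩

theorem hasSk_bc_iff (K : Type u) [Field K] [Algebra k K] (n : ℕ) (x' : ↥(FBase.bc q K)) :
    LocCoh.HasSk n ((FBase.bc q K).presheaf.stalk x') ((FBase.bc q K).presheaf.stalk x') ↔
      LocCoh.HasSk n (Z.presheaf.stalk ((FBase.bcπ q K).base x')) (Z.presheaf.stalk ((FBase.bcπ q K).base x')) := by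
  have hP := Codepth5.stable_skR.{u} n
  have h : IsPullback (FBase.bcπ q K) (FBase.bcStr q K) q (Spec.map (CommRingCat.ofHom (algebraMap k K))) :=
    IsPullback.of_hasPullback _ _
  haveI : IsLocallyNoetherian Z := LocallyOfFiniteType.isLocallyNoetherian q
  haveI : LocallyOfFiniteType (FBase.bcStr q K) := MorphismProperty.pullback_snd _ _ inferInstance
  haveI : IsLocallyNoetherian (FBase.bc q K) := LocallyOfFiniteType.isLocallyNoetherian (FBase.bcStr q K)
  have h2 := hP.fibre_iff h x'
  obtain ⟨e'⟩ := quot_fibIdeal_equiv (FBase.bcStr q K) x'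
  obtain ⟨e⟩ := quot_fibIdeal_equiv q ((FBase.bcπ q K).base x')
  rw [hP.congr e', hP.congr e] at h2
  exact ⟨fun hh => (h2.1 ⟨inferInstance, hh⟩).2, fun hh => (h2.2 ⟨inferInstance, hh⟩).2⟩

theorem nonempty_bc_self_equiv (w : Z) :
    ∃ x' : ↥(FBase.bc q k), (FBase.bcπ q k).base x' = w ∧
      Nonempty ((FBase.bc q k).presheaf.stalk x' ≃+* Z.presheaf.stalk w) := by
  haveI : IsIso (Spec.map (CommRingCat.ofHom (algebraMap k k))) := by
    rw [show CommRingCat.ofHom (algebraMap k k) = 𝟙 (CommRingCat.of k) from rfl, Spec.map_id]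
    infer_instance
  haveI : IsIso (FBase.bcπ q k) := pullback_fst_iso_of_right_iso _ _
  obtain ⟨x', rfl⟩ := (FBase.bcπ q k).homeomorph.surjective w
  exact ⟨x', rfl, ⟨(asIso ((FBase.bcπ q k).stalkMap x')).symm.commRingCatIsoToRingEquiv⟩⟩

/-- Geometric normality is geometric `(R₁)` with `(S₂)`, no embedded associated primes and equidimensionality. -/
theorem geomNormal_iff (w : Z) :
    (∀ (K : Type u) [Field K] [Algebra k K], Module.Finite k K →
        ∀ x' : ↥(FBase.bc q K), (FBase.bcπ q K).base x' = w →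
          IsDomain ((FBase.bc q K).presheaf.stalk x') ∧ IsIntegrallyClosed ((FBase.bc q K).presheaf.stalk x')) ↔
      ((∀ (K : Type u) [Field K] [Algebra k K], Module.Finite k K →
        ∀ x' : ↥(FBase.bc q K), (FBase.bcπ q K).base x' = w → LocCoh.HasRk 1 ((FBase.bc q K).presheaf.stalk x')) ∧
        EGA4.IsEquidim (Z.presheaf.stalk w) ∧ LocCoh.HasSk 2 (Z.presheaf.stalk w) (Z.presheaf.stalk w)) := by
  haveI : IsLocallyNoetherian Z := LocallyOfFiniteType.isLocallyNoetherian q
  have hN : ∀ (K : Type u) [Field K] [Algebra k K], IsLocallyNoetherian (FBase.bc q K) := fun K _ _ => by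
    haveI : LocallyOfFiniteType (FBase.bcStr q K) := MorphismProperty.pullback_snd _ _ inferInstance
    exact LocallyOfFiniteType.isLocallyNoetherian (FBase.bcStr q K)
  constructor
  · intro h
    obtain ⟨x', hx', ⟨e⟩⟩ := nonempty_bc_self_equiv q w
    obtain ⟨hd, hn⟩ := h k inferInstance x' hx'
    haveI := hd
    haveI := hn
    haveI : IsDomain (Z.presheaf.stalk w) := e.symm.toMulEquiv.isDomain
    haveI : IsIntegrallyClosed (Z.presheaf.stalk w) := IsIntegrallyClosed.of_equiv e
    refine ⟨fun K _ _ hK x' hx' => ?_, fun p hp => ?_, ((normal_local_iff _).1 ⟨inferInstance, inferInstance⟩).2⟩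
    · haveI := hN K
      exact ((normal_local_iff _).1 (h K hK x' hx')).1
    · rw [IsDomain.minimalPrimes_eq_singleton_bot, Set.mem_singleton_iff] at hp
      subst hp
      exact ringKrullDim_eq_of_ringEquiv (RingEquiv.quotientBot _)
  · rintro ⟨h1, -, h2⟩ K _ _ hK x' hx'
    haveI := hN K
    exact (normal_local_iff _).2 ⟨h1 K hK x' hx', (hasSk_bc_iff q K 2 x').2 (hx' ▸ h2)⟩

end Field

variable {X Y : Scheme.{u}} (f : X ⟶ Y) [LocallyOfFinitePresentation f]

/-- Geometric normality of the fibre at a point. -/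
def GNormal (y : Y) (w : ↥(f.fiber y)) : Prop :=
  ∀ (K : Type u) [Field K] [Algebra (IsLocalRing.ResidueField (Y.presheaf.stalk y)) K],
    Module.Finite (IsLocalRing.ResidueField (Y.presheaf.stalk y)) K →
    ∀ x' : ↥(FBase.bc (f.fiberToSpecResidueField y) K),
      (FBase.bcπ (f.fiberToSpecResidueField y) K).base x' = w →
      IsDomain ((FBase.bc (f.fiberToSpecResidueField y) K).presheaf.stalk x') ∧
        IsIntegrallyClosed ((FBase.bc (f.fiberToSpecResidueField y) K).presheaf.stalk x')

theorem gnormal_iff [Flat f] (y : Y) (w : ↥(f.fiber y)) :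
    GNormal f y w ↔ RkAt f 1 (f.fiberι y w) ∧ EquiAt f (Coh.structureModule X) (f.fiberι y w) ∧
      SkAt f (Coh.structureModule X) 2 (f.fiberι y w) :=
  (geomNormal_iff (k := (IsLocalRing.ResidueField (Y.presheaf.stalk y) : Type u)) (f.fiberToSpecResidueField y) w).trans
    (and_congr (geomRk_fiber_iff f 1 y w) (equidim_noEmb_sk_iff f (by norm_num) y w))

theorem isOpen_gnormal [Flat f] : IsOpen {x : X | GNormal f (f x) (f.asFiber x)} := by
  convert isOpen_rk_equidim f 1 2 (by norm_num) using 1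
  ext x
  exact (gnormal_iff f (f x) (f.asFiber x)).trans (by rw [f.fiberι_asFiber]; rfl)

theorem isOpen_base_gnormal [Flat f] [IsProper f] : IsOpen {y : Y | ∀ w, GNormal f y w} := by
  convert isOpen_base (f := f) f.isClosedMap (isOpen_rk_equidim f 1 2 (by norm_num)) using 1
  ext y
  simp only [Set.mem_ofPred_eq, gnormal_iff f y]
  refine ⟨fun h x hx => ?_, fun h w => h _ (apply_fiberι f y w)⟩
  obtain ⟨w, rfl⟩ : x ∈ Set.range (f.fiberι y) := by rw [Scheme.Hom.range_fiberι]; exact hx
  exact h w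

theorem gnormal_congr_of_isOpenImmersion {U : Scheme.{u}} (j : U ⟶ X) [IsOpenImmersion j] (u : U) :
    GNormal (j ≫ f) ((j ≫ f) u) ((j ≫ f).asFiber u) ↔ GNormal f (f (j u)) (f.asFiber (j u)) := by
  have key : ∀ (s : Y) (w : ↥((j ≫ f).fiber s)), GNormal (j ≫ f) s w ↔ GNormal f s (MoreMor.fiberMap j f s w) := by
    intro s w
    let φ := MoreMor.fiberMap j f s
    haveI : IsOpenImmersion φ :=
      MorphismProperty.of_isPullback (P := @IsOpenImmersion) (ConsPropLib.isPullback_fiberMap j f s) ‹_›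
    have hφ : φ ≫ f.fiberToSpecResidueField s = (j ≫ f).fiberToSpecResidueField s :=
      ConsPropLib.fiberMap_comp_toSpec j f s
    refine forall_congr' fun K => forall_congr' fun _ => forall_congr' fun _ => forall_congr' fun _ => ?_
    let q := f.fiberToSpecResidueField s
    let q' := (j ≫ f).fiberToSpecResidueField s
    let g := Spec.map (CommRingCat.ofHom (algebraMap (IsLocalRing.ResidueField (Y.presheaf.stalk s)) K))
    let ψ : FBase.bc q' K ⟶ FBase.bc q K :=
      pullback.map q' g q g φ (𝟙 _) (𝟙 _) (by rw [hφ]; exact Category.comp_id _) (by simp)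
    have hψ : ψ ≫ FBase.bcπ q K = FBase.bcπ q' K ≫ φ := pullback.lift_fst _ _ _
    have hψ2 : ψ ≫ FBase.bcStr q K = FBase.bcStr q' K := (pullback.lift_snd _ _ _).trans (Category.comp_id _)
    have sq : IsPullback ψ (FBase.bcπ q' K) (FBase.bcπ q K) φ := by
      refine IsPullback.of_right ?_ hψ (IsPullback.of_hasPullback q g).flip
      have h2 : ψ ≫ pullback.snd q g = pullback.snd q' g := hψ2
      rw [h2, hφ]
      exact (IsPullback.of_hasPullback q' g).flip
    haveI : IsOpenImmersion ψ := MorphismProperty.of_isPullback (P := @IsOpenImmersion) sq.flip ‹_›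
    have hst : ∀ a, (IsDomain ((FBase.bc q K).presheaf.stalk (ψ a)) ∧ IsIntegrallyClosed ((FBase.bc q K).presheaf.stalk (ψ a))) ↔
        (IsDomain ((FBase.bc q' K).presheaf.stalk a) ∧ IsIntegrallyClosed ((FBase.bc q' K).presheaf.stalk a)) := by
      intro a
      let e := (asIso (ψ.stalkMap a)).commRingCatIsoToRingEquiv
      constructor
      · rintro ⟨h1, h2⟩
        exact ⟨e.symm.toMulEquiv.isDomain, IsIntegrallyClosed.of_equiv e⟩
      · rintro ⟨h1, h2⟩
        exact ⟨e.toMulEquiv.isDomain, IsIntegrallyClosed.of_equiv e.symm⟩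
    constructor
    · intro h x' hx'
      obtain ⟨a, ha1, ha2⟩ := Scheme.Pullback.exists_preimage_pullback x' w hx'
      have e1 : ψ (sq.isoPullback.inv a) = x' := by
        rw [← Scheme.Hom.comp_apply, IsPullback.isoPullback_inv_fst]; exact ha1
      have e2 : (FBase.bcπ q' K) (sq.isoPullback.inv a) = w := by
        rw [← Scheme.Hom.comp_apply, IsPullback.isoPullback_inv_snd]; exact ha2
      exact e1 ▸ (hst _).2 (h _ e2)
    · intro h x' hx'
      refine (hst x').1 (h (ψ x') ?_)
      rw [← Scheme.Hom.comp_apply, hψ, Scheme.Hom.comp_apply, hx']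
  have hpt : ∀ (s : Y) (w : ↥(f.fiber s)), f.fiberι s w = j u → (GNormal f s w ↔ GNormal f (f (j u)) (f.asFiber (j u))) := by
    intro s w hw
    obtain rfl : f (j u) = s := hw ▸ apply_fiberι f s w
    rw [(f.fiberι (f (j u))).isEmbedding.injective (hw.trans (f.fiberι_asFiber (j u)).symm)]
  refine (key _ _).trans (hpt _ _ ?_)
  rw [← Scheme.Hom.comp_apply, ConsPropLib.fiberMap_comp_ι, Scheme.Hom.comp_apply, Scheme.Hom.fiberι_asFiber]

theorem isOpen_flat_gnormal : IsOpen {x : X | (f.stalkMap x).hom.Flat ∧ GNormal f (f x) (f.asFiber x)} := by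
  let W : X.Opens := ⟨{z | (f.stalkMap z).hom.Flat}, FlatLocus.isOpen_flat_locus f⟩
  haveI : Flat (W.ι ≫ f) := GeomRedFlat5.flat_of_range_subset (f := f) W.ι fun z => z.2
  convert W.ι.isOpenEmbedding.isOpenMap _ (isOpen_gnormal (W.ι ≫ f)) using 1
  ext x
  constructor
  · rintro ⟨h1, h2⟩
    exact ⟨⟨x, h1⟩, (gnormal_congr_of_isOpenImmersion f W.ι ⟨x, h1⟩).2 h2, rfl⟩
  · rintro ⟨u, hu, rfl⟩
    exact ⟨u.2, (gnormal_congr_of_isOpenImmersion f W.ι u).1 hu⟩

end Groth.Agent.AssDimLoci
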