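import Groth.Agent.AssDimLoci.Main
import Groth.Agent.QCoh.LocFree
import Groth.Agent.InvX.Tensor
import Groth.Agent.H23.PullPush
import Groth.Agent.FlatLoc6.SerreNormal
import Groth.Agent.AssLib.Apply

/-!
# The structure sheaf: local rings of the fibres
-/

set_option autoImplicit false
set_option linter.style.haveILetI false
set_option linter.unusedSectionVars false
set_option linter.deprecated false
set_option backward.isDefEq.respectTransparency false
set_option backward.isDefEq.respectTransparency.types false

universe u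

open AlgebraicGeometry CategoryTheory IsLocalRing TensorProduct

namespace Groth.Agent.AssDimLoci

variable {X Y : Scheme.{u}} (f : X ⟶ Y)

theorem isFP_structureModule : CohB1.IsFP (Coh.structureModule X) :=
  QCoh.isFP_of_isFinLocFree (H23.PullPush.isFinLocFree_of_isInvertible InvX.isInvertible_structureModule)

theorem isFlatOver_structureModule [Flat f] : FlatMod.IsFlatOver f (Coh.structureModule X) := by
  intro x
  let e := KFlatLib.stalkUnitEquiv x
  letI := FlatMod.moduleStalkOver f (Coh.structureModule X) x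
  letI : Algebra (Y.presheaf.stalk (f.base x)) (X.presheaf.stalk x) := (f.stalkMap x).hom.toAlgebra
  haveI : Module.Flat (Y.presheaf.stalk (f.base x)) (X.presheaf.stalk x) := Flat.stalkMap f x
  exact Module.Flat.of_linearEquiv (M := X.presheaf.stalk x)
    ({ e.toAddEquiv with map_smul' := fun r m => e.map_smul ((f.stalkMap x).hom r) m } :
      X.presheaf.stalk x ≃ₗ[Y.presheaf.stalk (f.base x)] (Coh.structureModule X).presheaf.stalk x).symm

/-- The fibre module of the structure sheaf is the structure sheaf of the fibre. -/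
theorem nonempty_fib_unit_equiv (y : Y) (w : ↥(f.fiber y)) :
    Nonempty ((Fib f (Coh.structureModule X) y).presheaf.stalk w ≃ₗ[(f.fiber y).presheaf.stalk w]
      (f.fiber y).presheaf.stalk w) := by
  let e := KFlatLib.stalkUnitEquiv (f.fiberι y w)
  letI : Algebra (X.presheaf.stalk (f.fiberι y w)) ((f.fiber y).presheaf.stalk w) :=
    ((f.fiberι y).stalkMap w).hom.toAlgebra
  let e₀ : (Fib f (Coh.structureModule X) y).presheaf.stalk w ≃ₗ[(f.fiber y).presheaf.stalk w]
      ((f.fiber y).presheaf.stalk w) ⊗[X.presheaf.stalk (f.fiberι y w)] ((Coh.structureModule X).presheaf.stalk (f.fiberι y w)) :=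
    ((KFlatLib.stalkPullbackIso (f.fiberι y) w).app (Coh.structureModule X)).toLinearEquiv
  exact ⟨e₀ ≪≫ₗ TensorProduct.AlgebraTensorModule.congr (LinearEquiv.refl _ _) e.symm ≪≫ₗ
    AlgebraTensorModule.rid (X.presheaf.stalk (f.fiberι y w)) ((f.fiber y).presheaf.stalk w) ((f.fiber y).presheaf.stalk w)⟩

theorem hasSk_congr' {R : Type u} [CommRing R] {M N : Type u} [AddCommGroup M] [Module R M] [AddCommGroup N]
    [Module R N] (e : M ≃ₗ[R] N) (k : ℕ) : LocCoh.HasSk k R M → LocCoh.HasSk k R N := by
  intro h p hp
  have e' := IsLocalizedModule.mapEquiv p.primeCompl (LocalizedModule.mkLinearMap p.primeCompl M)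
    (LocalizedModule.mkLinearMap p.primeCompl N) (Localization.AtPrime p) e
  rw [← Module.supportDim_eq_of_equiv e', ← (Alg6.depth_eq_of_semilinear (RingHom.id _) Function.surjective_id e'.toAddEquiv fun r x => e'.map_smul r x)]
  exact h p

theorem hasSk_self_iff [LocallyOfFinitePresentation f] (y : Y) (w : ↥(f.fiber y)) (k : ℕ) :
    LocCoh.HasSk k ((f.fiber y).presheaf.stalk w) ((f.fiber y).presheaf.stalk w) ↔
      SkAt f (Coh.structureModule X) k (f.fiberι y w) := by
  obtain ⟨e⟩ := nonempty_fib_unit_equiv f y w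
  refine Iff.trans ⟨hasSk_congr' e.symm k, hasSk_congr' e k⟩ ?_
  exact hasSk_iff f (Coh.structureModule X) isFP_structureModule y w k

theorem isEquidim_iff_isEquidimModule (R : Type u) [CommRing R] :
    EGA4.IsEquidim R ↔ EGA4.IsEquidimModule R R := by
  rw [EGA4.IsEquidim, EGA4.IsEquidimModule, Module.supportDim_self_eq_ringKrullDim,
    Module.annihilator_eq_bot.2 inferInstance]

/-- No embedded associated prime is `(S₁)`. -/
theorem ass_subset_minimal_iff (R : Type u) [CommRing R] [IsNoetherianRing R] :
    (∀ p ∈ associatedPrimes R R, p ∈ minimalPrimes R) ↔ LocCoh.HasSk 1 R R := by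
  refine ⟨fun h => ?_, fun h p hp => ?_⟩
  · rw [FlatLoc6.hasSk_self_iff]
    intro p hp
    rw [← FlatLoc6.depth_self_atPrime, Nat.cast_one]
    by_cases hmem : p ∈ associatedPrimes R R
    · have h0 : p.height = 0 := by
        haveI := (h p hmem).1.1
        exact Ideal.height_eq_zero_iff.2 (h p hmem)
      rw [h0]
      exact le_trans (min_le_right _ _) zero_le'
    · exact le_trans (min_le_left _ _) ((Alg6.one_le_depth_atPrime_iff (M := R) p).2 hmem)
  · haveI := hp.1
    have h0 := FlatLoc6.height_eq_zero_of_mem_ass h hp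
    exact Ideal.height_eq_zero_iff.1 h0

theorem equidim_noEmb_sk_iff [LocallyOfFinitePresentation f] [Flat f] {k : ℕ} (hk : 1 ≤ k) (y : Y) (w : ↥(f.fiber y)) :
    EGA4.IsEquidim ((f.fiber y).presheaf.stalk w) ∧
        LocCoh.HasSk k ((f.fiber y).presheaf.stalk w) ((f.fiber y).presheaf.stalk w) ↔
      EquiAt f (Coh.structureModule X) (f.fiberι y w) ∧ SkAt f (Coh.structureModule X) k (f.fiberι y w) := by
  rw [← equidim_sk_iff f (Coh.structureModule X) isFP_structureModule (isFlatOver_structureModule f) hk y w]
  obtain ⟨e⟩ := nonempty_fib_unit_equiv f y w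
  rw [isEquidim_iff_isEquidimModule]
  exact and_congr
    ⟨isEquidimModule_congr (RingEquiv.refl _) e.symm.toAddEquiv fun r x => e.symm.map_smul r x,
      isEquidimModule_congr (RingEquiv.refl _) e.toAddEquiv fun r x => e.map_smul r x⟩
    ⟨hasSk_congr' e.symm k, hasSk_congr' e k⟩

end Groth.Agent.AssDimLoci
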