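import Groth.Agent.AssDimLoci.GeomRk

/-!
# Openness of the geometric `(R_k)` loci of the fibres of a flat morphism
-/

set_option autoImplicit false
set_option linter.style.haveILetI false
set_option linter.unusedSectionVars false
set_option linter.deprecated false
set_option backward.isDefEq.respectTransparency false
set_option backward.isDefEq.respectTransparency.types false

universe u

open AlgebraicGeometry CategoryTheory

namespace Groth.Agent.AssDimLoci

variable {X Y : Scheme.{u}} (f : X ⟶ Y) [LocallyOfFinitePresentation f] [Flat f]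

omit [LocallyOfFinitePresentation f] [Flat f] in
theorem mem_support_structureModule (x : X) : x ∈ CohB1.support (Coh.structureModule X) := by
  let e := KFlatLib.stalkUnitEquiv x
  show ¬ Subsingleton _
  intro h
  haveI : Subsingleton (X.presheaf.stalk x) :=
    ⟨fun a b => e.injective (h.elim (e a) (e b))⟩
  exact one_ne_zero (α := X.presheaf.stalk x) (Subsingleton.elim _ _)

theorem isOpen_rk_equidim (n k : ℕ) (hk : 1 ≤ k) :
    IsOpen {x : X | RkAt f n x ∧ EquiAt f (Coh.structureModule X) x ∧ SkAt f (Coh.structureModule X) k x} := by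
  have D := depthData f (Coh.structureModule X) isFP_structureModule (isFlatOver_structureModule f)
  refine isOpen_iff_forall_mem_open.2 fun x ⟨hrk, heq, hsk⟩ => ?_
  obtain ⟨t₀, ht₀S, hg₀, hmax₀, hle₀⟩ := exists_maximal f (mem_support_structureModule x)
  have ha₀ := D.maximal t₀ ht₀S hmax₀
  let d := FibDim.rd f t₀
  refine ⟨{z | EquiAt f (Coh.structureModule X) z} ∩ {z | SkAt f (Coh.structureModule X) k z} ∩
      {z | DimsAt f (Coh.structureModule X) {d} z} ∩ {z | ∃ t ∈ sing f, Gen f z t ∧ d - n ≤ FibDim.rd f t}ᶜ,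
    ?_, ((D.isOpen_equidim.inter (D.isOpen_sk k)).inter (D.isOpen_dims {d})).inter
      (isClosed_exists_gen_rd f (isClosed_sing f) (d - n)).isOpen_compl, ⟨⟨⟨heq, hsk⟩, fun t ht hg => heq t t₀ ht ha₀ hg hg₀⟩, ?_⟩⟩
  · rintro z ⟨⟨⟨h1, h2⟩, h3⟩, h4⟩
    refine ⟨fun t hts hg => ?_, h1, h2⟩
    obtain ⟨t', ht'S, hg', hmax', -⟩ := exists_maximal f (mem_support_structureModule t)
    have hd : FibDim.rd f t' = d := h3 t' (D.maximal t' ht'S hmax') (Gen.trans f hg hg')
    refine ⟨t', hg', ?_⟩
    have hlt : FibDim.rd f t < d - n := not_le.1 fun h => h4 ⟨t, hts, hg, h⟩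
    omega
  · rintro ⟨t, hts, hg, hle⟩
    obtain ⟨t', hg', hlt⟩ := hrk t hts hg
    have h := hle₀ t' (mem_support_structureModule t') (Gen.trans f hg hg')
    omega

theorem isOpen_rk_equidim_noEmb_pointwise (n : ℕ) :
    IsOpen {x : X | (∀ (K : Type u) [Field K] [Algebra (IsLocalRing.ResidueField (Y.presheaf.stalk (f.base x))) K],
        Module.Finite (IsLocalRing.ResidueField (Y.presheaf.stalk (f.base x))) K →
        ∀ x' : ↥(FBase.bc (f.fiberToSpecResidueField (f.base x)) K),
          (FBase.bcπ (f.fiberToSpecResidueField (f.base x)) K).base x' = f.asFiber x →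
          LocCoh.HasRk n ((FBase.bc (f.fiberToSpecResidueField (f.base x)) K).presheaf.stalk x')) ∧
      EGA4.IsEquidim ↑((f.fiber (f.base x)).presheaf.stalk (f.asFiber x)) ∧
      (∀ p ∈ associatedPrimes ↑((f.fiber (f.base x)).presheaf.stalk (f.asFiber x)) ↑((f.fiber (f.base x)).presheaf.stalk (f.asFiber x)), p ∈ minimalPrimes ↑((f.fiber (f.base x)).presheaf.stalk (f.asFiber x)))} := by
  convert isOpen_rk_equidim f n 1 le_rfl using 1
  ext x
  haveI : IsLocallyNoetherian (f.fiber (f.base x)) := isLocallyNoetherian_fiber f (f x)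
  refine and_congr ((geomRk_fiber_iff f n (f x) (f.asFiber x)).trans (by rw [f.fiberι_asFiber])) ?_
  rw [ass_subset_minimal_iff]
  exact (equidim_noEmb_sk_iff f le_rfl (f x) (f.asFiber x)).trans (by rw [f.fiberι_asFiber])

theorem isOpen_base_rk_equidim_noEmb [IsProper f] (n : ℕ) :
    IsOpen {y : Y | ∀ x : ↥(f.fiber y), (∀ (K : Type u) [Field K] [Algebra (IsLocalRing.ResidueField (Y.presheaf.stalk y)) K],
        Module.Finite (IsLocalRing.ResidueField (Y.presheaf.stalk y)) K →
        ∀ x' : ↥(FBase.bc (f.fiberToSpecResidueField y) K),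
          (FBase.bcπ (f.fiberToSpecResidueField y) K).base x' = x →
          LocCoh.HasRk n ((FBase.bc (f.fiberToSpecResidueField y) K).presheaf.stalk x')) ∧
      EGA4.IsEquidim ↑((f.fiber y).presheaf.stalk x) ∧ (∀ p ∈ associatedPrimes ↑((f.fiber y).presheaf.stalk x) ↑((f.fiber y).presheaf.stalk x), p ∈ minimalPrimes ↑((f.fiber y).presheaf.stalk x))} := by
  convert isOpen_base (f := f) f.isClosedMap (isOpen_rk_equidim f n 1 le_rfl) using 1
  ext y
  haveI : IsLocallyNoetherian (f.fiber y) := isLocallyNoetherian_fiber f y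
  refine (forall_congr' fun w => and_congr (geomRk_fiber_iff f n y w) ((and_congr_right fun _ =>
    ass_subset_minimal_iff _).trans (equidim_noEmb_sk_iff f (le_refl 1) y w))).trans ?_
  refine ⟨fun h x hx => ?_, fun h w => h _ (apply_fiberι f y w)⟩
  obtain ⟨w, rfl⟩ : x ∈ Set.range (f.fiberι y) := by rw [Scheme.Hom.range_fiberι]; exact hx
  exact h w

end Groth.Agent.AssDimLoci
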