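import Groth.Agent.FibDim.Semicont

/-!
# Openness of the loci cut out by the dimensions of associated points in fibres

Everything follows from three facts about a depth function `a` with support `S`: the support is
closed, the rectified depth `a + rd` is lower semicontinuous, and the maximal points of the support
in the fibres have depth zero.
-/

set_option autoImplicit false
set_option linter.style.haveILetI false
set_option linter.unusedSectionVars false
set_option linter.deprecated false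
set_option linter.unusedVariables false

open AlgebraicGeometry CategoryTheory

universe u

namespace Groth.Agent.AssDimLoci

variable {X Y : Scheme.{u}} (f : X ⟶ Y)

/-- `t` is a generization of `x` in the fibre through `x`. -/
def Gen (x t : X) : Prop := t ⤳ x ∧ f t = f x

theorem Gen.refl (x : X) : Gen f x x := ⟨specializes_rfl, rfl⟩

theorem Gen.trans {x t t' : X} (h : Gen f x t) (h' : Gen f t t') : Gen f x t' :=
  ⟨h'.1.trans h.1, h'.2.trans h.2⟩

variable [LocallyOfFiniteType f]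

/-- Data: a closed support and a depth function with lower semicontinuous rectified depth. -/
structure DepthData (S : Set X) (a : X → ℕ∞) : Prop where
  closed : IsClosed S
  top_of_notMem : ∀ x, x ∉ S → a x = ⊤
  maximal : ∀ t ∈ S, (∀ t' ∈ S, Gen f t t' → t' = t) → a t = 0
  openR : ∀ n : ℕ, IsOpen {x | (n : ℕ∞) ≤ a x + (FibDim.rd f x : ℕ∞)}

theorem isClosed_exists_gen_rd {C : Set X} (hC : IsClosed C) (d : ℕ) :
    IsClosed {x | ∃ t ∈ C, Gen f x t ∧ d ≤ FibDim.rd f t} := by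
  refine ⟨isOpen_iff_forall_mem_open.2 fun x hx => ?_⟩
  by_cases hxC : x ∈ C
  swap
  · refine ⟨Cᶜ, fun x' hx' ⟨t, ht, hg, _⟩ => hx' (hg.1.mem_closed hC ht), hC.isOpen_compl, hxC⟩
  have hlt : ∀ t ∈ C, Gen f x t → FibDim.rd f t < d := fun t ht hg =>
    not_le.1 fun h => hx ⟨t, ht, hg, h⟩
  obtain ⟨e, rfl⟩ : ∃ e, d = e + 1 := ⟨d - 1, by have := hlt x hxC (Gen.refl f x); omega⟩
  haveI : IsLocallyNoetherian (f.fiber (f x)) :=
    LocallyOfFiniteType.isLocallyNoetherian (f.fiberToSpecResidueField (f x))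
  obtain ⟨W, hxW, hW⟩ := FibDim.exists_nhd_generizing (X := f.fiber (f x))
    (hC.preimage (f.fiberι (f x)).continuous) (f.asFiber x)
  obtain ⟨W', hW', hWW'⟩ := (f.fiberι (f x)).isEmbedding.isInducing.isOpen_iff.mp W.isOpen
  have hxW' : x ∈ W' := by
    have : f.asFiber x ∈ (f.fiberι (f x)) ⁻¹' W' := hWW'.symm ▸ hxW
    simpa [Scheme.Hom.fiberι_asFiber] using this
  have hdim : topologicalKrullDim ↥(W' ∩ C ∩ f ⁻¹' {f x}) ≤ e := by
    refine (FibDim.dim_inter_le_iff f _ hW' hC _).2 fun w h1 h2 h3 => ?_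
    obtain ⟨w', rfl⟩ : w ∈ Set.range (f.fiberι (f x)) := by rw [Scheme.Hom.range_fiberι]; exact h3
    obtain ⟨η, hη, hηx, hηw⟩ := hW w' (hWW'.le h1) h2
    have hfη : f (f.fiberι (f x) η) = f x := by
      have : f.fiberι (f x) η ∈ Set.range (f.fiberι (f x)) := ⟨η, rfl⟩
      rw [Scheme.Hom.range_fiberι] at this
      exact this
    refine le_trans (FibDim.rd_le_of_specializes f (hηw.map (f.fiberι (f x)).continuous)
      (hfη.trans h3.symm)) (Nat.lt_succ_iff.1 (hlt _ hη ⟨?_, hfη⟩))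
    have := hηx.map (f.fiberι (f x)).continuous
    rwa [Scheme.Hom.fiberι_asFiber] at this
  obtain ⟨U, hU, hxU, -, hUb⟩ := FibDim.exists_open_dim_le f hW' hC hxW' hxC e hdim
  refine ⟨U, fun x' hx' ⟨t, ht, hg, hd⟩ => ?_, hU, hxU⟩
  have := (FibDim.dim_inter_le_iff f _ hU hC _).1 (hUb (f t)) t (hg.1.mem_open hU hx') ht rfl
  omega

/-- The relative degree is locally bounded. -/
theorem exists_bound (x : X) : ∃ (U : Set X) (N : ℕ), IsOpen U ∧ x ∈ U ∧ ∀ z ∈ U, FibDim.rd f z ≤ N := by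
  obtain ⟨z, -, -, he, -⟩ := FibDim.exists_fibreDimAt_eq f x
  obtain ⟨U, hxU, hU⟩ := FibDim.exists_nhd_rd_le f x (FibDim.rd f z) (le_of_eq (by exact_mod_cast he))
  exact ⟨U, _, U.isOpen, hxU, hU⟩

/-- A maximum of `rd` among the generizations in `S` is a maximal point of `S` in the fibre. -/
theorem exists_maximal {S : Set X} {x : X} (hx : x ∈ S) :
    ∃ t ∈ S, Gen f x t ∧ (∀ t' ∈ S, Gen f t t' → t' = t) ∧
      ∀ t' ∈ S, Gen f x t' → FibDim.rd f t' ≤ FibDim.rd f t := by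
  obtain ⟨t, ht, h1, h2, hmax⟩ := FibDim.exists_max_rd f hx
  refine ⟨t, ht, ⟨h1, h2⟩, fun t' ht' hg => ?_, fun t' ht' hg => hmax t' ht' hg.1 hg.2⟩
  by_contra hne
  have h3 := FibDim.rd_lt f hg.1 hne hg.2
  have h4 := hmax t' ht' (hg.1.trans h1) (hg.2.trans h2)
  omega

variable {f} {S : Set X} {a : X → ℕ∞}

theorem DepthData.mem (D : DepthData f S a) {t : X} (h : a t = 0) : t ∈ S := by
  by_contra h'
  simp [D.top_of_notMem t h'] at h

theorem DepthData.closedLE (D : DepthData f S a) (n : ℕ) :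
    IsClosed {x | a x + (FibDim.rd f x : ℕ∞) ≤ n} := by
  refine ⟨?_⟩
  convert D.openR (n + 1) using 1
  ext x
  simp only [Set.mem_compl_iff, Set.mem_setOf_eq, not_le, Nat.cast_add, Nat.cast_one]
  exact ⟨Order.add_one_le_of_lt, fun h => lt_of_lt_of_le (ENat.lt_add_one_iff (ENat.coe_ne_top n) |>.2 le_rfl) h⟩

theorem DepthData.eq_zero (D : DepthData f S a) {t : X} {n : ℕ}
    (h : a t + (FibDim.rd f t : ℕ∞) ≤ n) (hn : n ≤ FibDim.rd f t) : a t = 0 ∧ FibDim.rd f t = n := by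
  generalize a t = b at h
  induction b using ENat.recTopCoe with
  | top => simp at h
  | coe b =>
    have h' : b + FibDim.rd f t ≤ n := by exact_mod_cast h
    exact ⟨by exact_mod_cast (show b = 0 by omega), by omega⟩

/-- The associated points through `x` have dimensions in `Φ`. -/
theorem DepthData.isOpen_dims (D : DepthData f S a) (Φ : Set ℕ) :
    IsOpen {x | ∀ t, a t = 0 → Gen f x t → FibDim.rd f t ∈ Φ} := by
  refine isOpen_iff_forall_mem_open.2 fun x hx => ?_
  obtain ⟨U, N, hU, hxU, hN⟩ := exists_bound f x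
  classical
  let B : ℕ → Set X := fun d => {z | ∃ t ∈ {z | a z + (FibDim.rd f z : ℕ∞) ≤ d}, Gen f z t ∧ d ≤ FibDim.rd f t}
  refine ⟨U ∩ ⋂ d ∈ (Finset.range (N + 1)).filter (· ∉ Φ), (B d)ᶜ, ?_,
    hU.inter (isOpen_biInter_finset fun d _ => (isClosed_exists_gen_rd f (D.closedLE d) d).isOpen_compl),
    hxU, ?_⟩
  · rintro z ⟨hzU, hz⟩ t ht hg
    by_contra hd
    refine Set.mem_iInter₂.1 hz (FibDim.rd f t) ?_ ⟨t, ?_, hg, le_rfl⟩
    · exact Finset.mem_filter.2 ⟨Finset.mem_range.2 (Nat.lt_succ_iff.2 (hN t (hg.1.mem_open hU hzU))), hd⟩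
    · show a t + _ ≤ _
      rw [ht, zero_add]
  · refine Set.mem_iInter₂.2 fun d hd ⟨t, ht, hg, hle⟩ => (Finset.mem_filter.1 hd).2 ?_
    obtain ⟨h0, he⟩ := D.eq_zero ht hle
    exact he ▸ hx t h0 hg

/-- No embedded associated point through `x`. -/
theorem DepthData.isOpen_noEmb (D : DepthData f S a) :
    IsOpen {x | ∀ t, a t = 0 → Gen f x t → ∀ t', a t' = 0 → Gen f t t' → t' = t} := by
  refine isOpen_iff_forall_mem_open.2 fun x hx => ?_
  obtain ⟨U, N, hU, hxU, hN⟩ := exists_bound f x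
  let B : ℕ → Set X := fun d => {z | ∃ t ∈ ({z | a z + (FibDim.rd f z : ℕ∞) ≤ d} ∩
    {z | ∃ t' ∈ S, Gen f z t' ∧ d + 1 ≤ FibDim.rd f t'}), Gen f z t ∧ d ≤ FibDim.rd f t}
  refine ⟨U ∩ ⋂ d ∈ Finset.range (N + 1), (B d)ᶜ, ?_,
    hU.inter (isOpen_biInter_finset fun d _ => (isClosed_exists_gen_rd f
      ((D.closedLE d).inter (isClosed_exists_gen_rd f D.closed (d + 1))) d).isOpen_compl), hxU, ?_⟩
  · rintro z ⟨hzU, hz⟩ t ht hg t' ht' hg'
    by_contra hne
    refine Set.mem_iInter₂.1 hz (FibDim.rd f t)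
      (Finset.mem_range.2 (Nat.lt_succ_iff.2 (hN t (hg.1.mem_open hU hzU))))
      ⟨t, ⟨?_, t', D.mem ht', hg', FibDim.rd_lt f hg'.1 hne hg'.2⟩, hg, le_rfl⟩
    show a t + _ ≤ _
    rw [ht, zero_add]
  · refine Set.mem_iInter₂.2 fun d _ ⟨t, ⟨ht, t', ht'S, hg', hd'⟩, hg, hle⟩ => ?_
    obtain ⟨h0, he⟩ := D.eq_zero ht hle
    obtain ⟨t'', hS, hg'', hmax, hb⟩ := exists_maximal f (D.mem h0)
    have heq := hx t h0 hg t'' (D.maximal t'' hS hmax) hg''
    have h := hb t' ht'S hg'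
    rw [heq] at h
    omega

/-- All associated points through `x` have the same dimension. -/
theorem DepthData.isOpen_equidim (D : DepthData f S a) :
    IsOpen {x | ∀ t t', a t = 0 → a t' = 0 → Gen f x t → Gen f x t' → FibDim.rd f t = FibDim.rd f t'} := by
  convert isOpen_iUnion fun n : ℕ => D.isOpen_dims {n} using 1
  ext x
  simp only [Set.mem_setOf_eq, Set.mem_iUnion, Set.mem_singleton_iff]
  refine ⟨fun h => ?_, fun ⟨n, hn⟩ t t' ht ht' hg hg' => (hn t ht hg).trans (hn t' ht' hg').symm⟩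
  by_cases hex : ∃ t, a t = 0 ∧ Gen f x t
  · obtain ⟨t, ht, hg⟩ := hex
    exact ⟨FibDim.rd f t, fun t' ht' hg' => h t' t ht' ht hg' hg⟩
  · exact ⟨0, fun t ht hg => (hex ⟨t, ht, hg⟩).elim⟩

/-- Serre's condition `(S_k)` through `x`. -/
theorem DepthData.isOpen_sk (D : DepthData f S a) (k : ℕ) :
    IsOpen {x | ∀ t ∈ S, Gen f x t → ∀ n : ℕ, n < k → a t ≤ n → ∀ t' ∈ S, Gen f t t' →
      FibDim.rd f t' ≤ FibDim.rd f t + n} := by
  refine isOpen_iff_forall_mem_open.2 fun x hx => ?_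
  obtain ⟨U, N, hU, hxU, hN⟩ := exists_bound f x
  let B : ℕ → ℕ → Set X := fun n m => {z | ∃ t ∈ ({z | a z + (FibDim.rd f z : ℕ∞) ≤ (n + m : ℕ)} ∩
    {z | ∃ t' ∈ S, Gen f z t' ∧ n + m + 1 ≤ FibDim.rd f t'}), Gen f z t ∧ m ≤ FibDim.rd f t}
  refine ⟨U ∩ ⋂ n ∈ Finset.range k, ⋂ m ∈ Finset.range (N + 1), (B n m)ᶜ, ?_,
    hU.inter (isOpen_biInter_finset fun n _ => isOpen_biInter_finset fun m _ => (isClosed_exists_gen_rd f
      ((D.closedLE (n + m)).inter (isClosed_exists_gen_rd f D.closed (n + m + 1))) m).isOpen_compl), hxU, ?_⟩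
  · rintro z ⟨hzU, hz⟩ t htS hg n hn hle t' ht' hg'
    by_contra hlt
    refine Set.mem_iInter₂.1 (Set.mem_iInter₂.1 hz n (Finset.mem_range.2 hn)) (FibDim.rd f t)
      (Finset.mem_range.2 (Nat.lt_succ_iff.2 (hN t (hg.1.mem_open hU hzU))))
      ⟨t, ⟨?_, t', ht', hg', by omega⟩, hg, le_rfl⟩
    show a t + _ ≤ _
    rw [Nat.cast_add]
    exact add_le_add_left hle _
  · refine Set.mem_iInter₂.2 fun n hn => Set.mem_iInter₂.2 fun m _ ⟨t, ⟨ht, t', ht', hg', hd'⟩, hg, hle⟩ => ?_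
    have ht₀ : a t + (FibDim.rd f t : ℕ∞) ≤ (n + m : ℕ) := ht
    generalize hb : a t = b at ht₀
    induction b using ENat.recTopCoe with
    | top => simp at ht₀
    | coe b =>
      have htS : t ∈ S := by
        by_contra h'
        rw [D.top_of_notMem t h'] at hb
        exact ENat.top_ne_coe b hb
      have h1 : b + FibDim.rd f t ≤ n + m := by exact_mod_cast ht₀
      have h2 := hx t htS hg b (by have := Finset.mem_range.1 hn; omega) hb.le t' ht' hg'
      omega

/-- A pointwise open condition gives an open condition on the base. -/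
theorem isOpen_base (hf : IsClosedMap f) {P : X → Prop} (hP : IsOpen {x | P x}) :
    IsOpen {y : Y | ∀ x, f x = y → P x} := by
  convert (hf _ hP.isClosed_compl).isOpen_compl using 1
  ext y
  simp only [Set.mem_setOf_eq, Set.mem_compl_iff, Set.mem_image, not_exists, not_and]
  exact ⟨fun h x hx he => hx (h x he), fun h x he => by_contra fun hx => h x hx he⟩

theorem DepthData.isOpen_base_dim_le (D : DepthData f S a) (hf : IsClosedMap f) (n : ℕ) :
    IsOpen {y : Y | ∀ t ∈ S, f t = y → FibDim.rd f t ≤ n} := by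
  convert isOpen_base (f := f) hf (isClosed_exists_gen_rd f D.closed (n + 1)).isOpen_compl using 1
  ext y
  simp only [Set.mem_setOf_eq, not_exists, not_and, not_le]
  exact ⟨fun h x he t ht hg => Nat.lt_succ_iff.2 (h t ht (hg.2.trans he)),
    fun h t ht he => Nat.lt_succ_iff.1 (h t he t ht (Gen.refl f t))⟩

/-- The bases over which some component of the support in the fibre has dimension `n`. -/
theorem DepthData.isOpen_component (D : DepthData f S a)
    (himg : ∀ U : Set X, IsOpen U → IsOpen (f '' (U ∩ S))) (n : ℕ) :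
    IsOpen {y : Y | ∃ t ∈ S, f t = y ∧ FibDim.rd f t = n ∧ ∀ t' ∈ S, Gen f t t' → t' = t} := by
  refine isOpen_iff_forall_mem_open.2 fun y ⟨w, hwS, hwy, hwn, hwmax⟩ => ?_
  let G : Set X := {x | ∀ t, a t = 0 → Gen f x t → FibDim.rd f t ∈ ({n} : Set ℕ)}
  refine ⟨f '' (G ∩ S), ?_, himg G (D.isOpen_dims {n}),
    ⟨w, ⟨fun t ht hg => by rw [hwmax t (D.mem ht) hg]; exact hwn, hwS⟩, hwy⟩⟩
  rintro _ ⟨x, ⟨hx, hxS⟩, rfl⟩
  obtain ⟨t, htS, hg, hmax, -⟩ := exists_maximal f hxS
  exact ⟨t, htS, hg.2, hx t (D.maximal t htS hmax) hg, hmax⟩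

end Groth.Agent.AssDimLoci
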